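import Cfsg.Agent.Lib.ThreeTransp.M22Sylow.FiveGraph
import Cfsg.Agent.Lib.ThreeTransp.M22Invol

/-!
# Groups of type `M(22)`: subgroups of order five
-/

set_option autoImplicit false

namespace CfsgLib.M22Sylow

open CfsgLib.ThreeTransp CfsgLib.M22
open CfsgLib.PSUAut CfsgLib.U6
open CfsgLib.UnitarySpec (psuMk)
open Equiv (swap)

variable {G : Type*} [Group G] [Finite G] {D : Set G} (S : Setup D) {F : Type} [Field F] [Fintype F]
  (hF : Fintype.card F = 2 ^ 2) (hM : ∀ a ∈ D, Nonempty (Model D a F))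
include S hF hM

/-- The point stabiliser bound. -/
theorem five_kernel {a c e y : G} (ha : a ∈ D) (hy : y ^ 5 = 1) (hy1 : y ≠ 1) (hay : Commute a y)
    (hc : c ∈ link D a) (he : e ∈ link D a) (hce : ¬ Commute c e) (hyc : Commute y c) (hye : Commute y e)
    {K : Subgroup G} (haK : a ∉ K)
    (hK : ∀ g ∈ K, Commute g a ∧ Commute g c ∧ Commute g e ∧ Commute g y) : Nat.card K ∣ 15 := by
  have hpr : (5 : ℕ).Prime := by norm_num
  obtain ⟨A⟩ := hM a ha
  obtain ⟨h, t, ht, htp, ht1⟩ := exists_model_lift S hF hM hpr (by norm_num) (by norm_num) ha A hy hy1 hay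
  obtain ⟨u, hu⟩ := A.exists_pt_of_link S hF ha hc
  obtain ⟨v, hv⟩ := A.exists_pt_of_link S hF ha he
  have hu' := (commute_iff_fix S hF hpr (by norm_num) ha A ht htp hc hu).1 hyc
  have hv' := (commute_iff_fix S hF hpr (by norm_num) ha A ht htp he hv).1 hye
  obtain ⟨hK2, hdvd⟩ := five_main hF htp ht1 hu.1.1 hu'
  have huv : Cfsg.hermForm 6 F 2 u v ≠ 0 := fun h => hce ((A.comm_iff S hF ha hc he hu hv).2 h)
  have hlt : Submodule.span F {u} < Submodule.span F {u, v} := by
    refine lt_of_le_of_ne (Submodule.span_mono (by simp)) fun heq => ?_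
    have hvu : v ∈ Submodule.span F {u} := by rw [heq]; exact Submodule.subset_span (by simp)
    obtain ⟨r, rfl⟩ := Submodule.mem_span_singleton.1 hvu
    exact huv (by rw [U6.smul_right hF, hu.1.2, mul_zero])
  have hspan : Submodule.span F {u, v} = fixSub t := by
    refine Submodule.eq_of_le_of_finrank_le (Submodule.span_le.2 ?_) ?_
    · rintro x (rfl | rfl)
      exacts [hu', hv']
    · have := Submodule.finrank_lt_finrank_of_lt hlt
      rw [finrank_span_singleton hu.1.1] at this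
      rw [hK2]; omega
  have h1 := card_imgSub S hF hM ha A (K := K) fun g hg => (hK g hg).1.symm
  have hbot : K ⊓ Subgroup.zpowers a = ⊥ := (Subgroup.eq_bot_iff_forall _).2 fun z hz => by
    rcases mem_zpowers_cases S ha (Subgroup.mem_inf.1 hz).2 with h | h
    · exact h
    · exact absurd (h ▸ (Subgroup.mem_inf.1 hz).1) haK
  rw [hbot, Subgroup.card_bot, one_mul] at h1
  rw [h1]
  refine (card_dvd_pointStab hF fun q hq => ?_).trans hdvd
  obtain ⟨g, hg, s, hgK, hsg, rfl, hst⟩ := mem_imgSub hF hpr (by norm_num) A ht htp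
    (fun g hg => (hK g hg).2.2.2.symm) hq
  have hmove : ∀ {f : G} (hf : f ∈ link D a) {w : Fin 6 → F}, IsPt (A.img hf) w → Commute g f →
      ∃ r : F, r ≠ 0 ∧ act s w = r • w := by
    intro f hf w hw hgf
    have h1 := hw.conj hF s
    rw [hsg, ← A.img_conj S hf ⟨g, hg⟩] at h1
    have e1 : A.img (Model.conj_mem S hf ⟨g, hg⟩) = A.img hf :=
      congrArg A.ψ (Subtype.ext (show g * f * g⁻¹ = f by rw [hgf.eq, mul_inv_cancel_right]))
    rw [e1] at h1
    exact IsPt.span_eq hF hw h1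
  obtain ⟨r, hr0, hr⟩ := hmove hc hu (hK g hgK).2.1
  obtain ⟨r', hr'0, hr'⟩ := hmove he hv (hK g hgK).2.2.1
  have heq : r' = r := by
    have e1 : r * r' ^ 2 = 1 := by
      have := act_form s u v
      rw [hr, hr', U6.smul_left hF, U6.smul_right hF, ← mul_assoc] at this
      exact mul_right_cancel₀ huv (this.trans (one_mul _).symm)
    have e2 := cube_eq_one hF hr'0
    have e3 : r' = r * r' ^ 3 := by linear_combination -r' * e1
    rw [e3, e2, mul_one]
  obtain ⟨s', hs', hs't, hs'a⟩ := scalar_fix hF hst (inv_ne_zero hr0)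
  refine ⟨s', ⟨hs't, fun w hw => ?_⟩, hs'⟩
  rw [← hspan, Submodule.mem_span_pair] at hw
  obtain ⟨p, q, rfl⟩ := hw
  rw [act_add, act_smul, act_smul, hs'a, hs'a, hr, hr', heq, smul_smul r⁻¹, smul_smul r⁻¹, inv_mul_cancel₀ hr0,
    one_smul, one_smul]

/-- The structure of the normaliser of a subgroup of order five with a fixed member. -/
theorem five_local {y d : G} (hy : y ^ 5 = 1) (hy1 : y ≠ 1) (hd : d ∈ fixSet D y) :
    ∃ F' : Subgroup G, Nat.card ↥F' = 20 ∧ Subgroup.zpowers y ≤ F' ∧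
      F' ⊓ Subgroup.centralizer ((Subgroup.zpowers y : Subgroup G) : Set G) = Subgroup.zpowers y ∧
      F' ⊓ Subgroup.closure (fixSet D y) = ⊥ ∧
      (∀ x ∈ F', ∀ z ∈ Subgroup.closure (fixSet D y), x * z = z * x) ∧
      F' ⊔ Subgroup.closure (fixSet D y) = Subgroup.normalizer ((Subgroup.zpowers y : Subgroup G) : Set G) ∧
      Nonempty (↥(Subgroup.closure (fixSet D y)) ≃* Equiv.Perm (Fin 5)) := by
  have hpr : (5 : ℕ).Prime := by norm_num
  obtain ⟨φ, hinj, hfix, hφd⟩ := five_symm S hF hM hd hy hy1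
  have hX : Nat.card (Subgroup.zpowers y) = 5 := by
    haveI := Fact.mk hpr
    rw [Nat.card_zpowers, orderOf_eq_prime hy hy1]
  set X := Subgroup.zpowers y with hXdef
  set T := fixSet D y with hTdef
  set H := Subgroup.closure T with hH
  set N := Subgroup.normalizer (X : Set G) with hN
  set C := Subgroup.centralizer (X : Set G) with hC
  have hCN : C ≤ N := Subgroup.centralizer_le_normalizer _
  have hHC : H ≤ C := (Subgroup.closure_le C).2 fun u hu => Loc.mem_centralizer_zpowers.2 hu.2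
  have hrange : H = φ.range := by
    rw [hH, hfix, ← MonoidHom.map_closure, Equiv.Perm.closure_isSwap, ← MonoidHom.range_eq_map]
  have hH120 : Nat.card H = 120 := by
    rw [hrange, ← Nat.card_congr (MonoidHom.ofInjective hinj).toEquiv, Nat.card_perm, Nat.card_fin]
    rfl
  -- the four generators
  have hsw : ∀ {i j : Fin 5}, i ≠ j → φ (swap i j) ∈ T := fun {i j} hij => by
    rw [hfix]; exact ⟨_, ⟨i, j, hij, rfl⟩, rfl⟩
  obtain ⟨a, hφa⟩ : ∃ a, φ (swap 0 1) = a := ⟨_, rfl⟩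
  obtain ⟨b, hφb⟩ : ∃ b, φ (swap 1 2) = b := ⟨_, rfl⟩
  obtain ⟨c, hφc⟩ : ∃ c, φ (swap 2 3) = c := ⟨_, rfl⟩
  obtain ⟨e, hφe⟩ : ∃ e, φ (swap 3 4) = e := ⟨_, rfl⟩
  have haT : a ∈ T := hφa ▸ hsw (by decide)
  have hbT : b ∈ T := hφb ▸ hsw (by decide)
  have hcT : c ∈ T := hφc ▸ hsw (by decide)
  have heT : e ∈ T := hφe ▸ hsw (by decide)
  have hlink : ∀ {σ τ : Equiv.Perm (Fin 5)}, φ τ ∈ T → σ ≠ τ → σ * τ = τ * σ → φ τ ∈ link D (φ σ) :=
    fun {σ τ} h hne hc => ⟨h.1, fun h => hne (hinj h).symm, (show Commute σ τ from hc).map φ⟩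
  have hca : c ∈ link D a := by
    rw [← hφa, ← hφc]; exact hlink (hsw (by decide)) (by decide) (by decide)
  have hea : e ∈ link D a := by
    rw [← hφa, ← hφe]; exact hlink (hsw (by decide)) (by decide) (by decide)
  have hbe : b ∈ link D e := by
    rw [← hφb, ← hφe]; exact hlink (hsw (by decide)) (by decide) (by decide)
  have hnce : ¬ Commute c e := fun h => by
    have h' : φ (swap 2 3 * swap 3 4) = φ (swap 3 4 * swap 2 3) := by rw [map_mul, map_mul, hφc, hφe]; exact h.eq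
    exact absurd (hinj h') (by decide)
  have hnab : ¬ Commute a b := fun h => by
    have h' : φ (swap 0 1 * swap 1 2) = φ (swap 1 2 * swap 0 1) := by rw [map_mul, map_mul, hφa, hφb]; exact h.eq
    exact absurd (hinj h') (by decide)
  have hgen : ∀ g, Commute g a → Commute g b → Commute g c → Commute g e → ∀ σ, Commute g (φ σ) := by
    intro g ga gb gc ge σ
    have hσ : σ ∈ Submonoid.closure (Set.range fun i : Fin 4 ↦ swap i.castSucc i.succ) := by
      rw [Equiv.Perm.mclosure_swap_castSucc_succ]; trivial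
    induction hσ using Submonoid.closure_induction with
    | mem s hs =>
      obtain ⟨i, rfl⟩ := hs
      fin_cases i
      · exact hφa.symm ▸ ga
      · exact hφb.symm ▸ gb
      · exact hφc.symm ▸ gc
      · exact hφe.symm ▸ ge
    | one => rw [map_one]; exact Commute.one_right g
    | mul u v _ _ h1 h2 => rw [map_mul]; exact h1.mul_right h2
  have hTF : ∀ g, Commute g a → Commute g b → Commute g c → Commute g e →
      g ∈ Subgroup.centralizer (T : Set G) := fun g ga gb gc ge => by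
    rw [Subgroup.mem_centralizer_iff, hfix]
    rintro x ⟨σ, -, rfl⟩
    exact (hgen g ga gb gc ge σ).symm.eq
  have hFH : ∀ x ∈ Subgroup.centralizer (T : Set G), ∀ z ∈ H, x * z = z * x := fun x hx z hz => by
    rw [← Subgroup.centralizer_closure] at hx
    exact (Subgroup.mem_centralizer_iff.1 hx z hz).symm
  have hbot0 : Subgroup.centralizer (T : Set G) ⊓ H = ⊥ := (Subgroup.eq_bot_iff_forall _).2 fun z hz => by
    obtain ⟨hz1, hz2⟩ := Subgroup.mem_inf.1 hz
    rw [hrange] at hz2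
    obtain ⟨σ, rfl⟩ := hz2
    have k : ∀ τ : Equiv.Perm (Fin 5), φ τ ∈ T → σ * τ = τ * σ := fun τ hτ =>
      hinj (by rw [map_mul, map_mul]; exact hFH _ hz1 _ (Subgroup.subset_closure hτ))
    rw [perm5_central σ (k _ (hsw (by decide))) (k _ (hsw (by decide))) (k _ (hsw (by decide)))
      (k _ (hsw (by decide))), map_one]
  -- a subgroup between `H` and `N`
  have hmid : ∀ M : Subgroup G, H ≤ M → M ≤ N →
      Nat.card M = 120 * Nat.card ↥(M ⊓ Subgroup.centralizer (T : Set G)) ∧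
        (M ⊓ Subgroup.centralizer (T : Set G)) ⊔ H = M := by
    intro M hHM hMN
    have hne : ∀ {g u w : G}, Commute g u → g * w * g⁻¹ = u → w = u := fun {g u w} hg h => by
      rw [← mul_inv_eq_iff_eq_mul.2 hg.eq] at h
      exact mul_left_cancel (mul_right_cancel h)
    have h1 := Loc.card_le_mul M a T fun g hg => fixSet_normalizer S (hMN hg) haT
    rw [five_ten S hF hM hd hy hy1] at h1
    have h2 := Loc.card_le_mul (M ⊓ Subgroup.centralizer ({a} : Set G)) c {f | f ∈ link D a ∧ Commute y f}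
      fun g hg => by
        obtain ⟨g1, g2⟩ := Subgroup.mem_inf.1 hg
        exact ⟨link_invariant S (Subgroup.mem_centralizer_singleton_iff.1 g2).symm hca,
          (fixSet_normalizer S (hMN g1) hcT).2⟩
    obtain ⟨h3a, -⟩ := five_nbrs S hF hM haT.1 hy hy1 haT.2.symm
    obtain ⟨h3e, -⟩ := five_nbrs S hF hM heT.1 hy hy1 heT.2.symm
    rw [h3a] at h2
    have h3 := Loc.card_le_mul (M ⊓ Subgroup.centralizer ({a} : Set G) ⊓ Subgroup.centralizer ({c} : Set G)) e
      ({f | f ∈ link D a ∧ Commute y f} \ {c}) fun g hg => by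
        obtain ⟨g12, g3⟩ := Subgroup.mem_inf.1 hg
        obtain ⟨g1, g2⟩ := Subgroup.mem_inf.1 g12
        refine ⟨⟨link_invariant S (Subgroup.mem_centralizer_singleton_iff.1 g2).symm hea,
          (fixSet_normalizer S (hMN g1) heT).2⟩, fun h => hnce ?_⟩
        rw [Set.mem_singleton_iff] at h
        rw [hne (Subgroup.mem_centralizer_singleton_iff.1 g3) h]
    rw [Set.ncard_diff_singleton_of_mem (show c ∈ {f | f ∈ link D a ∧ Commute y f} from ⟨hca, hcT.2⟩), h3a] at h3
    have h4 := Loc.card_le_mul (M ⊓ Subgroup.centralizer ({a} : Set G) ⊓ Subgroup.centralizer ({c} : Set G) ⊓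
      Subgroup.centralizer ({e} : Set G)) b ({f | f ∈ link D e ∧ Commute y f} \ {a}) fun g hg => by
        obtain ⟨g123, g4⟩ := Subgroup.mem_inf.1 hg
        obtain ⟨g12, -⟩ := Subgroup.mem_inf.1 g123
        obtain ⟨g1, g2⟩ := Subgroup.mem_inf.1 g12
        refine ⟨⟨link_invariant S (Subgroup.mem_centralizer_singleton_iff.1 g4).symm hbe,
          (fixSet_normalizer S (hMN g1) hbT).2⟩, fun h => hnab ?_⟩
        rw [Set.mem_singleton_iff] at h
        rw [hne (Subgroup.mem_centralizer_singleton_iff.1 g2) h]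
    rw [Set.ncard_diff_singleton_of_mem (show a ∈ {f | f ∈ link D e ∧ Commute y f} from
      ⟨link_swap haT.1 hea, haT.2⟩), h3e] at h4
    have h5 : Nat.card ↥(M ⊓ Subgroup.centralizer ({a} : Set G) ⊓ Subgroup.centralizer ({c} : Set G) ⊓
        Subgroup.centralizer ({e} : Set G) ⊓ Subgroup.centralizer ({b} : Set G)) ≤
        Nat.card ↥(M ⊓ Subgroup.centralizer (T : Set G)) := by
      refine Nat.le_of_dvd Nat.card_pos (Subgroup.card_dvd_of_le fun g hg => ?_)
      simp only [Subgroup.mem_inf, Subgroup.mem_centralizer_singleton_iff] at hg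
      obtain ⟨⟨⟨⟨g1, g2⟩, g3⟩, g4⟩, g5⟩ := hg
      exact Subgroup.mem_inf.2 ⟨g1, hTF g g2 g5 g3 g4⟩
    have hb0 : (M ⊓ Subgroup.centralizer (T : Set G)) ⊓ H = ⊥ := by rw [inf_assoc, hbot0, inf_bot_eq]
    have hle : Nat.card M ≤ Nat.card ↥(M ⊓ Subgroup.centralizer (T : Set G)) * Nat.card H := by
      rw [hH120]; omega
    have hs := Loc.sup_eq_of_card inf_le_left hHM hb0 hle
    refine ⟨le_antisymm (by omega) ?_, hs⟩
    have := Loc.card_mul_le_sup hb0
    rw [hs, hH120] at this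
    omega
  obtain ⟨hC120, -⟩ := hmid C hHC hCN
  obtain ⟨hN120, hNsup⟩ := hmid N (hHC.trans hCN) le_rfl
  set K := C ⊓ Subgroup.centralizer (T : Set G) with hKdef
  have hXC : X ≤ C := Subgroup.zpowers_le.2 (Loc.mem_centralizer_zpowers.2 (Commute.refl y))
  have hXT : X ≤ Subgroup.centralizer (T : Set G) :=
    Subgroup.zpowers_le.2 (hTF y haT.2 hbT.2 hcT.2 heT.2)
  have hXK : X ≤ K := le_inf hXC hXT
  have hK15 : Nat.card K ∣ 15 := five_kernel S hF hM haT.1 hy hy1 haT.2.symm hca hea hnce hcT.2 heT.2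
    (fun h => hnab (hFH a (Subgroup.mem_inf.1 h).2 b (Subgroup.subset_closure hbT))) fun g hg =>
      ⟨hFH g (Subgroup.mem_inf.1 hg).2 a (Subgroup.subset_closure haT),
        hFH g (Subgroup.mem_inf.1 hg).2 c (Subgroup.subset_closure hcT),
        hFH g (Subgroup.mem_inf.1 hg).2 e (Subgroup.subset_closure heT),
        (Loc.mem_centralizer_zpowers.1 (Subgroup.mem_inf.1 hg).1).symm⟩
  have htrans : ∀ f ∈ T, ∃ g ∈ H, g * a * g⁻¹ = f := by
    intro f hf
    rw [hfix] at hf
    obtain ⟨σ, ⟨i, j, hij, rfl⟩, rfl⟩ := hf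
    obtain ⟨g, hg⟩ := isConj_iff.1 (Equiv.Perm.isConj_swap (show (0 : Fin 5) ≠ 1 by decide) hij)
    exact ⟨φ g, hrange ▸ ⟨g, rfl⟩, by rw [← hφa, ← hg, map_mul, map_mul, map_inv]⟩
  have hCa := Loc.card_eq_mul C a T (fun g hg => fixSet_normalizer S (hCN hg) haT) fun f hf =>
    let ⟨g, hg, h⟩ := htrans f hf; ⟨g, hHC hg, h⟩
  have hNa := Loc.card_eq_mul N a T (fun g hg => fixSet_normalizer S hg haT) fun f hf =>
    let ⟨g, hg, h⟩ := htrans f hf; ⟨g, hCN (hHC hg), h⟩
  rw [five_ten S hF hM hd hy hy1] at hCa hNa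
  set Da := Subgroup.centralizer ({a} : Set G) with hDa
  have hXa : X ≤ Da := Subgroup.zpowers_le.2 (Subgroup.mem_centralizer_singleton_iff.2 haT.2.eq)
  obtain ⟨m, hm, hm1⟩ := Loc.sylow_count hpr hXa hX (by rw [hDa, card_centralizer S hF hM haT.1]; norm_num)
  obtain ⟨k, hk, hk4⟩ := Loc.normalizer_index hpr Da hX
  rw [← hN, ← hC, inf_comm Da C] at hk
  rw [← hN, hk, hDa, card_centralizer S hF hM haT.1, ← hDa] at hm
  rw [inf_comm Da N] at hk
  have hk' : k ≤ 4 := Nat.le_of_dvd (by norm_num) hk4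
  have hK5 : 5 ∣ Nat.card K := hX ▸ Subgroup.card_dvd_of_le hXK
  have hKle := Nat.le_of_dvd (by norm_num) hK15
  have hfinal : Nat.card K = 5 ∧ k = 4 := by
    obtain ⟨j, hj⟩ := hK5
    rw [hj] at hK15 hC120 hKle
    have hj3 : j ≤ 3 := by omega
    have hCa' : Nat.card ↥(C ⊓ Da) = 60 * j := by omega
    rw [hCa'] at hm
    unfold Nat.ModEq at hm1
    interval_cases j <;> interval_cases k <;> first
      | omega
      | (norm_num at hK15)
  obtain ⟨hKcard, rfl⟩ := hfinal
  have hN2400 : Nat.card N = 2400 := by omega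
  refine ⟨N ⊓ Subgroup.centralizer (T : Set G), by omega, le_inf (hXC.trans hCN) hXT, ?_, ?_,
    fun x hx z hz => hFH x (Subgroup.mem_inf.1 hx).2 z hz, hNsup, ⟨?_⟩⟩
  · rw [inf_right_comm, inf_eq_right.2 hCN, ← hKdef]
    exact (Subgroup.eq_of_le_of_card_ge hXK (by rw [hKcard, hX])).symm
  · rw [inf_assoc, hbot0, inf_bot_eq]
  · exact (MulEquiv.subgroupCongr hrange).trans (MonoidHom.ofInjective hinj).symm

/-- An element of order five commuting with an involution fixes a member. -/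
theorem five_fixes {u t : G} (hu : u ^ 5 = 1) (ht : orderOf t = 2) (hut : Commute u t) :
    ∃ d, d ∈ fixSet D u := by
  have small : ∀ (w : G) (V : Set G), w ^ 5 = 1 → V.ncard ≤ 3 → (∀ x ∈ V, w * x * w⁻¹ ∈ V) →
      ∀ a ∈ V, Commute w a := by
    intro w V hw hV hinv a ha
    have hpow : ∀ g ∈ Subgroup.zpowers w, g * a * g⁻¹ ∈ V := fun g hg => by
      obtain ⟨k, rfl⟩ := mem_powers_iff_mem_zpowers.2 hg
      clear hg
      simp only
      induction k with
      | zero => simpa using ha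
      | succ k ih => simpa [pow_succ', mul_assoc] using hinv _ ih
    have h := Loc.card_eq_orbit_mul (Subgroup.zpowers w) a
    have hle : ((fun g => g * a * g⁻¹) '' (Subgroup.zpowers w : Set G)).ncard ≤ 3 :=
      (Set.ncard_le_ncard (Set.image_subset_iff.2 hpow) (Set.toFinite _)).trans hV
    have hdvd : ((fun g => g * a * g⁻¹) '' (Subgroup.zpowers w : Set G)).ncard ∣ 5 :=
      (Dvd.intro _ h.symm).trans (Nat.card_zpowers w ▸ orderOf_dvd_of_pow_eq_one hw)
    rcases (Nat.dvd_prime (by norm_num)).1 hdvd with h1 | h1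
    · obtain ⟨x, hx⟩ := Set.ncard_eq_one.1 h1
      have e1 : (1 : G) * a * (1 : G)⁻¹ ∈ ({x} : Set G) := hx ▸ ⟨1, one_mem _, rfl⟩
      have e2 : w * a * w⁻¹ ∈ ({x} : Set G) := hx ▸ ⟨w, Subgroup.mem_zpowers w, rfl⟩
      rw [one_mul, inv_one, mul_one, Set.mem_singleton_iff] at e1
      rw [Set.mem_singleton_iff, ← e1] at e2
      exact mul_inv_eq_iff_eq_mul.1 e2
    · omega
  have hcj : ∀ {g x z : G}, Commute x z → Commute (g * x * g⁻¹) (g * z * g⁻¹) :=
    fun {g _ _} h => h.map (MulAut.conj g).toMonoidHom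
  rcases invol_cases S hF hM ht with htD | ⟨a, b, ha, hb, hab⟩ | ⟨a, b, c, T, habc⟩
  · exact ⟨t, htD, hut⟩
  · refine ⟨a, ha, small u {a, b} hu ((Set.ncard_insert_le _ _).trans (by simp)) ?_ a (by simp)⟩
    have h : (u * a * u⁻¹) * (u * b * u⁻¹) = a * b := by
      rw [hab]
      calc (u * a * u⁻¹) * (u * b * u⁻¹) = u * (a * b) * u⁻¹ := by group
        _ = t := by rw [hab, hut.eq, mul_inv_cancel_right]
    have hne : a ≠ b := hb.2.1.symm
    rcases pair_unique S hF hM (S.tt.conj u a ha) (S.tt.conj u b hb.1) ha hb.1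
      (fun h' => hne (mul_left_cancel (mul_right_cancel h'))) hne (hcj hb.2.2) hb.2.2 h with ⟨e1, e2⟩ | ⟨e1, e2⟩
    · rintro x (rfl | rfl)
      · exact Or.inl e1
      · exact Or.inr e2
    · rintro x (rfl | rfl)
      · exact Or.inr e1
      · exact Or.inl e2
  · obtain ⟨p, q, r, -, -, -, hall⟩ := exists_partner_triple S hF hM T
    let A : Set G := {a, b, c}
    let B : Set G := {p, q, r}
    let img : G → Set G := fun g => (fun x => g * x * g⁻¹) '' A
    have hcl : ∀ g : G, Commute g t → img g = A ∨ img g = B := by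
      intro g hg
      have hinjc : ∀ {x z : G}, g * x * g⁻¹ = g * z * g⁻¹ → x = z := fun h =>
        mul_left_cancel (mul_right_cancel h)
      have hT' : Tri D (g * a * g⁻¹) (g * b * g⁻¹) (g * c * g⁻¹) :=
        ⟨S.tt.conj g a T.ha, S.tt.conj g b T.hb, S.tt.conj g c T.hc, fun h => T.ab (hinjc h),
          fun h => T.ac (hinjc h), fun h => T.bc (hinjc h), hcj T.cab, hcj T.cac, hcj T.cbc⟩
      have hprod : g * a * g⁻¹ * (g * b * g⁻¹) * (g * c * g⁻¹) = a * b * c := by
        calc g * a * g⁻¹ * (g * b * g⁻¹) * (g * c * g⁻¹) = g * (a * b * c) * g⁻¹ := by group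
          _ = a * b * c := by rw [habc, hg.eq, mul_inv_cancel_right]
      have key : ∀ {p q r : G}, SameTri (g * a * g⁻¹) (g * b * g⁻¹) (g * c * g⁻¹) p q r →
          img g = ({p, q, r} : Set G) := by
        intro p q r h
        ext x
        have hx := h x
        simp only [List.mem_cons, List.not_mem_nil, or_false] at hx
        simp only [img, A, Set.image_insert_eq, Set.image_singleton, Set.mem_insert_iff, Set.mem_singleton_iff]
        exact hx
      exact (hall _ _ _ hT' hprod).imp key key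
    have hA3 : A.ncard ≤ 3 := (Set.ncard_insert_le _ _).trans
      (Nat.succ_le_succ ((Set.ncard_insert_le _ _).trans (by simp)))
    have hpres : ∀ g : G, g ^ 5 = 1 → img g = A → Commute g a := fun g hg h =>
      small g A hg hA3 (fun x hx => h ▸ ⟨x, hx, rfl⟩) a (by simp [A])
    refine ⟨a, T.ha, ?_⟩
    rcases hcl u hut with h1 | h1
    · exact hpres u hu h1
    rcases hcl (u * u) (hut.mul_left hut) with h2 | h2
    · have hc := hpres (u * u) (by rw [← pow_two, ← pow_mul, show 2 * 5 = 5 * 2 by norm_num, pow_mul, hu, one_pow]) h2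
      have he : u = (u * u) ^ 3 := by
        rw [← pow_two, ← pow_mul, show 2 * 3 = 5 + 1 by norm_num, pow_succ, hu, one_mul]
      rw [he]
      exact hc.pow_left 3
    · refine hpres u hu (Set.Subset.antisymm ?_ ?_)
      · rintro _ ⟨x, hx, rfl⟩
        have : u * (u * x * u⁻¹) * u⁻¹ ∈ img u := by
          rw [h1, ← h2]; exact ⟨x, hx, by group⟩
        obtain ⟨z, hz, hzx⟩ := this
        show u * x * u⁻¹ ∈ A
        rw [← (mul_left_cancel (mul_right_cancel hzx) : z = u * x * u⁻¹)]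
        exact hz
      · intro x hx
        have : u * x * u⁻¹ ∈ img (u * u) := by rw [h2, ← h1]; exact ⟨x, hx, rfl⟩
        obtain ⟨z, hz, hzx⟩ := this
        refine ⟨z, hz, mul_left_cancel (a := u) (mul_right_cancel (b := u⁻¹) ?_)⟩
        rw [← hzx]; group

/-- Every element of order five fixes a member. -/
theorem five_has_fixed {z : G} (hz : z ^ 5 = 1) (hz1 : z ≠ 1) : ∃ d, d ∈ fixSet D z := by
  classical
  have hpr : (5 : ℕ).Prime := by norm_num
  haveI := Fact.mk hpr
  have := Fintype.ofFinite G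
  have := Fintype.ofFinite (Subgroup G)
  obtain ⟨a, ha, -⟩ := S.exists_noncommuting
  obtain ⟨⟨y, hya⟩, hy5⟩ := exists_prime_orderOf_dvd_card' (G := Subgroup.centralizer ({a} : Set G)) 5
    (by rw [card_centralizer S hF hM ha]; norm_num)
  rw [Subgroup.orderOf_mk] at hy5
  have hy : y ^ 5 = 1 := hy5 ▸ pow_orderOf_eq_one y
  have hy1 : y ≠ 1 := fun e => by rw [e, orderOf_one] at hy5; norm_num at hy5
  obtain ⟨F', hF20, hXF, -, hFH, hcom, -, ⟨iso⟩⟩ := five_local S hF hM hy hy1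
    (show a ∈ fixSet D y from ⟨ha, Subgroup.mem_centralizer_singleton_iff.1 hya⟩)
  set H := Subgroup.closure (fixSet D y) with hH
  obtain ⟨⟨u, huH⟩, hu5⟩ := exists_prime_orderOf_dvd_card' (G := H) 5 (by
    rw [Nat.card_congr iso.toEquiv, Nat.card_perm, Nat.card_fin]; decide)
  haveI := Fact.mk Nat.prime_two
  obtain ⟨⟨t, htF⟩, ht2⟩ := exists_prime_orderOf_dvd_card' (G := F') 2 (by rw [hF20]; norm_num)
  rw [Subgroup.orderOf_mk] at hu5 ht2
  have hu : u ^ 5 = 1 := hu5 ▸ pow_orderOf_eq_one u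
  obtain ⟨f, hf⟩ := five_fixes S hF hM hu ht2 ((hcom t htF u huH).symm : Commute u t)
  have huy : Commute y u := (hcom y (hXF (Subgroup.mem_zpowers y)) u huH : Commute y u)
  set P := Subgroup.zpowers y ⊔ Subgroup.zpowers u with hP
  have hdis : Subgroup.zpowers y ⊓ Subgroup.zpowers u = ⊥ :=
    le_bot_iff.1 ((inf_le_inf hXF (Subgroup.zpowers_le.2 huH)).trans hFH.le)
  have hzy : Nat.card (Subgroup.zpowers y) = 5 := by rw [Nat.card_zpowers, hy5]
  have hzu : Nat.card (Subgroup.zpowers u) = 5 := by rw [Nat.card_zpowers, hu5]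
  have hP25 : Nat.card P = 25 := by
    have h1 := Loc.card_mul_le_sup hdis
    have h2 := Loc.card_sup_le (A := Subgroup.zpowers y) (B := Subgroup.zpowers u) (Subgroup.zpowers_le.2
      (Subgroup.centralizer_le_normalizer _ (Loc.mem_centralizer_zpowers.2 huy)))
    rw [hzy, hzu] at h1 h2
    rw [← hP] at h1 h2
    omega
  have hPa : ∀ d ∈ D, ∀ Q : Subgroup G, Q ≤ P → Q ≤ Subgroup.centralizer ({d} : Set G) → Nat.card Q ∣ 5 := by
    intro d hd Q hQ hQd
    have h1 := Subgroup.card_dvd_of_le hQd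
    rw [card_centralizer S hF hM hd] at h1
    have h2 := Subgroup.card_dvd_of_le hQ
    rw [hP25] at h2
    exact (Nat.dvd_gcd h1 h2).trans (by norm_num)
  -- subgroups of order five of `P`, and those with a fixed member
  let Fix : Subgroup G → Finset G := fun Y => Finset.univ.filter fun d => d ∈ D ∧ Y ≤ Subgroup.centralizer ({d} : Set G)
  let 𝒴 : Finset (Subgroup G) := Finset.univ.filter fun Y => Y ≤ P ∧ Nat.card Y = 5
  let 𝒮 : Finset (Subgroup G) := 𝒴.filter fun Y => (Fix Y).Nonempty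
  have hgenY : ∀ Y : Subgroup G, Nat.card Y = 5 → ∀ w ∈ Y, w ≠ 1 → Y = Subgroup.zpowers w := by
    intro Y hY w hw hw1
    refine (Subgroup.eq_of_le_of_card_ge (Subgroup.zpowers_le.2 hw) ?_).symm
    have hw5 : w ^ 5 = 1 := hY ▸ congrArg Subtype.val (pow_card_eq_one' (x := (⟨w, hw⟩ : Y)))
    rw [Nat.card_zpowers, orderOf_eq_prime hw5 hw1, hY]
  have h24 : 𝒴.card ≤ 6 := by
    let el : Subgroup G → Finset G := fun Y => Finset.univ.filter fun w => w ∈ Y ∧ w ≠ 1
    have hel : ∀ Y : Subgroup G, (el Y).card = Nat.card Y - 1 := by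
      intro Y
      rw [← Set.ncard_coe_finset, show ((el Y : Finset G) : Set G) = (Y : Set G) \ {1} from ?_,
        Set.ncard_diff_singleton_of_mem Y.one_mem, ← Nat.card_coe_set_eq, SetLike.coe_sort_coe]
      ext w; simp [el]
    have hd : (𝒴 : Set (Subgroup G)).PairwiseDisjoint el := by
      intro Y hY Y' hY' hne
      simp only [Finset.coe_filter, Finset.mem_univ, true_and, Set.mem_ofPred_eq, 𝒴] at hY hY'
      refine Finset.disjoint_left.2 fun w hw hw' => hne ?_
      simp only [el, Finset.mem_filter, Finset.mem_univ, true_and] at hw hw'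
      rw [hgenY Y hY.2 w hw.1 hw.2, hgenY Y' hY'.2 w hw'.1 hw.2]
    have hsub : 𝒴.biUnion el ⊆ el P := by
      intro w hw
      simp only [Finset.mem_biUnion, el, Finset.mem_filter, Finset.mem_univ, true_and, 𝒴] at hw ⊢
      obtain ⟨Y, hY, hw, hw1⟩ := hw
      exact ⟨hY.1 hw, hw1⟩
    have := Finset.card_le_card hsub
    rw [Finset.card_biUnion hd, hel, hP25, Finset.sum_congr rfl (g := fun _ => 4) fun Y hY => by
      rw [hel Y, (Finset.mem_filter.1 hY).2.2]] at this
    rw [Finset.sum_const, smul_eq_mul] at this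
    omega
  have hten : ∀ Y ∈ 𝒮, (Fix Y).card = 10 := by
    intro Y hY
    obtain ⟨hY, hne⟩ := Finset.mem_filter.1 hY
    obtain ⟨w, rfl, hw, hw1⟩ := Loc.exists_gen hpr (Finset.mem_filter.1 hY).2.2
    have e : ((Fix (Subgroup.zpowers w) : Finset G) : Set G) = fixSet D w := by
      ext d
      simp only [Fix, Finset.coe_filter, Finset.mem_univ, true_and, Set.mem_ofPred_eq, Subgroup.zpowers_le,
        Subgroup.mem_centralizer_singleton_iff]
      exact Iff.rfl
    obtain ⟨d, hd⟩ := hne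
    rw [← Set.ncard_coe_finset, e]
    exact five_ten S hF hM (show d ∈ fixSet D w by rw [← e]; exact hd) hw hw1
  have hdisS : (𝒮 : Set (Subgroup G)).PairwiseDisjoint Fix := by
    intro Y hY Y' hY' hne
    refine Finset.disjoint_left.2 fun d hd hd' => hne ?_
    simp only [Fix, Finset.mem_filter, Finset.mem_univ, true_and] at hd hd'
    obtain ⟨-, hYP, hY5⟩ := Finset.mem_filter.1 (Finset.mem_filter.1 hY).1
    obtain ⟨-, hYP', hY5'⟩ := Finset.mem_filter.1 (Finset.mem_filter.1 hY').1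
    have h := Nat.le_of_dvd (by norm_num) (hPa d hd.1 (Y ⊔ Y') (sup_le hYP hYP') (sup_le hd.2 hd'.2))
    rw [Subgroup.eq_of_le_of_card_ge (le_sup_left : Y ≤ Y ⊔ Y') (h.trans hY5.ge)]
    exact (Subgroup.eq_of_le_of_card_ge (le_sup_right : Y' ≤ Y ⊔ Y') (h.trans hY5'.ge)).symm
  set U : Set G := {d | d ∈ D ∧ P ⊓ Subgroup.centralizer ({d} : Set G) ≠ ⊥} with hU
  have hUc : U.ncard = 10 * 𝒮.card := by
    have e : U = ((𝒮.biUnion Fix : Finset G) : Set G) := by
      ext d
      simp only [Finset.coe_biUnion, Set.mem_iUnion, Finset.mem_coe, exists_prop]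
      constructor
      · rintro ⟨hd, hne⟩
        set Q := P ⊓ Subgroup.centralizer ({d} : Set G) with hQ
        have h5 : Nat.card Q = 5 := ((Nat.dvd_prime hpr).1 (hPa d hd Q inf_le_left inf_le_right)).resolve_left
          fun h => hne (Subgroup.eq_bot_iff_card Q |>.2 h)
        refine ⟨Q, Finset.mem_filter.2 ⟨Finset.mem_filter.2 ⟨Finset.mem_univ _, inf_le_left, h5⟩, ⟨d, ?_⟩⟩, ?_⟩ <;>
          exact Finset.mem_filter.2 ⟨Finset.mem_univ _, hd, inf_le_right⟩
      · rintro ⟨Y, hY, hd⟩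
        obtain ⟨-, hd, hYd⟩ := Finset.mem_filter.1 hd
        obtain ⟨-, hYP, hY5⟩ := Finset.mem_filter.1 (Finset.mem_filter.1 hY).1
        refine ⟨hd, fun h => ?_⟩
        have := le_bot_iff.1 (h ▸ le_inf hYP hYd : Y ≤ ⊥)
        rw [this, Subgroup.card_bot] at hY5
        norm_num at hY5
    rw [e, Set.ncard_coe_finset, Finset.card_biUnion hdisS, Finset.sum_congr rfl hten, Finset.sum_const,
      smul_eq_mul, mul_comm]
  have hfree : 25 ∣ (D \ U).ncard := by
    have hinvU : ∀ g ∈ P, ∀ d ∈ D \ U, g * d * g⁻¹ ∈ D \ U := by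
      intro g hg d hd
      refine ⟨S.tt.conj g d hd.1, fun h => hd.2 ⟨hd.1, fun hb => h.2 ((Subgroup.eq_bot_iff_forall _).2 fun w hw => ?_)⟩⟩
      obtain ⟨hw1, hw2⟩ := Subgroup.mem_inf.1 hw
      have hw3 := (Subgroup.eq_bot_iff_forall _).1 hb (g⁻¹ * w * g) (Subgroup.mem_inf.2
        ⟨mul_mem (mul_mem (inv_mem hg) hw1) hg, Subgroup.mem_centralizer_singleton_iff.2 (by
          calc g⁻¹ * w * g * d = g⁻¹ * (w * (g * d * g⁻¹)) * g := by group
            _ = g⁻¹ * (g * d * g⁻¹ * w) * g := by rw [Subgroup.mem_centralizer_singleton_iff.1 hw2]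
            _ = d * (g⁻¹ * w * g) := by group)⟩)
      calc w = g * (g⁻¹ * w * g) * g⁻¹ := by group
        _ = 1 := by rw [hw3, mul_one, mul_inv_cancel]
    letI : MulAction P ↥(D \ U) :=
      { smul := fun g d => ⟨g.1 * d.1 * g.1⁻¹, hinvU g.1 g.2 d.1 d.2⟩
        one_smul := fun d => Subtype.ext (show (1 : G) * d.1 * (1 : G)⁻¹ = d.1 by group)
        mul_smul := fun g g' d => Subtype.ext (show (g.1 * g'.1) * d.1 * (g.1 * g'.1)⁻¹ =
          g.1 * (g'.1 * d.1 * g'.1⁻¹) * g.1⁻¹ by group) }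
    have hst : ∀ d : ↥(D \ U), MulAction.stabilizer P d = ⊥ := fun d => (Subgroup.eq_bot_iff_forall _).2 fun g hg => by
      have h0 : P ⊓ Subgroup.centralizer ({d.1} : Set G) = ⊥ := by
        by_contra h
        exact d.2.2 ⟨d.2.1, h⟩
      exact Subtype.ext ((Subgroup.eq_bot_iff_forall _).1 h0 g.1 (Subgroup.mem_inf.2 ⟨g.2,
        Subgroup.mem_centralizer_singleton_iff.2
          (mul_inv_eq_iff_eq_mul.1 (congrArg Subtype.val (MulAction.mem_stabilizer_iff.1 hg)))⟩))
    refine ⟨Nat.card (Quotient (MulAction.orbitRel P ↥(D \ U))), ?_⟩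
    rw [← Nat.card_coe_set_eq, mul_comm, Nat.card_congr (MulAction.selfEquivOrbitsQuotientProd hst),
      Nat.card_prod, hP25]
  have hmem : ∀ w ∈ P, w ≠ 1 → ∀ h5 : w ^ 5 = 1, (∃ d, d ∈ fixSet D w) → Subgroup.zpowers w ∈ 𝒮 := by
    rintro w hw hw1 h5 ⟨d, hd, hwd⟩
    refine Finset.mem_filter.2 ⟨Finset.mem_filter.2 ⟨Finset.mem_univ _, Subgroup.zpowers_le.2 hw, ?_⟩, ⟨d, ?_⟩⟩
    · rw [Nat.card_zpowers, orderOf_eq_prime h5 hw1]
    · exact Finset.mem_filter.2 ⟨Finset.mem_univ _, hd,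
        Subgroup.zpowers_le.2 (Subgroup.mem_centralizer_singleton_iff.2 hwd.eq)⟩
  have hall : 𝒮 = 𝒴 := by
    refine Finset.eq_of_subset_of_card_le (Finset.filter_subset _ _) ?_
    have h2 : 2 ≤ 𝒮.card := by
      refine Finset.one_lt_card.2 ⟨_, hmem y (Subgroup.mem_sup_left (Subgroup.mem_zpowers y)) hy1 hy
        ⟨a, ha, Subgroup.mem_centralizer_singleton_iff.1 hya⟩, _,
        hmem u (Subgroup.mem_sup_right (Subgroup.mem_zpowers u)) (fun e => by rw [e, orderOf_one] at hu5; norm_num at hu5)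
          hu ⟨f, hf⟩, fun e => ?_⟩
      rw [← e, inf_idem] at hdis
      rw [hdis, Subgroup.card_bot] at hzy
      norm_num at hzy
    have hle := Finset.card_le_card (Finset.filter_subset (fun Y => (Fix Y).Nonempty) 𝒴)
    have hd := Set.ncard_diff (show U ⊆ D from fun d hd => hd.1) (Set.toFinite U)
    rw [ncard_eq S hF hM, hUc] at hd
    change 𝒮.card ≤ 𝒴.card at hle
    obtain ⟨q, hq⟩ := hfree
    omega
  -- conjugate into `P`
  have hz5 : Nat.card (Subgroup.zpowers z) = 5 := by rw [Nat.card_zpowers, orderOf_eq_prime hz hz1]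
  obtain ⟨Q, hQ⟩ := (IsPGroup.of_card (show Nat.card (Subgroup.zpowers z) = 5 ^ 1 by rw [hz5]; norm_num)).exists_le_sylow
  have hf2 : (Nat.card G).factorization 5 = 2 := by
    rw [card_eq S hF hM, show 2 ^ 17 * 3 ^ 9 * 5 ^ 2 * 7 * 11 * 13 = 5 ^ 2 * (2 ^ 17 * 3 ^ 9 * 7 * 11 * 13) by norm_num,
      Nat.factorization_mul (by norm_num) (by norm_num), Finsupp.add_apply, hpr.factorization_pow,
      Finsupp.single_eq_same, Nat.factorization_eq_zero_of_not_dvd (by norm_num)]
  obtain ⟨g, hg⟩ := MulAction.exists_smul_eq G Q (Sylow.ofCard P (by rw [hP25, hf2]; norm_num))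
  have hmemP : g * z * g⁻¹ ∈ P := by
    have h1 : g * z * g⁻¹ ∈ ((g • Q : Sylow 5 G) : Subgroup G) := by
      rw [Sylow.coe_subgroup_smul, Subgroup.mem_pointwise_smul_iff_inv_smul_mem]
      simpa [MulAut.smul_def, mul_assoc] using hQ (Subgroup.mem_zpowers z)
    rw [hg] at h1
    exact h1
  have hz1' : g * z * g⁻¹ ≠ 1 := fun e => hz1 (by simpa [mul_assoc] using congrArg (fun x => g⁻¹ * x * g) e)
  have hzY : Subgroup.zpowers (g * z * g⁻¹) ∈ 𝒴 := Finset.mem_filter.2 ⟨Finset.mem_univ _,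
    Subgroup.zpowers_le.2 hmemP, by rw [Nat.card_zpowers, orderOf_eq_prime (by rw [conj_pow, hz, mul_one, mul_inv_cancel]) hz1']⟩
  rw [← hall] at hzY
  obtain ⟨d, hd⟩ := (Finset.mem_filter.1 hzY).2
  obtain ⟨-, hd, hzd⟩ := Finset.mem_filter.1 hd
  refine ⟨g⁻¹ * d * g, by simpa using S.tt.conj g⁻¹ d hd, ?_⟩
  have hc := Subgroup.mem_centralizer_singleton_iff.1 (hzd (Subgroup.mem_zpowers _))
  calc z * (g⁻¹ * d * g) = g⁻¹ * (g * z * g⁻¹ * d) * g := by group
    _ = g⁻¹ * (d * (g * z * g⁻¹)) * g := by rw [hc]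
    _ = g⁻¹ * d * g * z := by group

/-- The normaliser of a subgroup of order five. -/
theorem five_normalizer {X : Subgroup G} (hX : Nat.card X = 5) :
    ∃ F' : Subgroup G, Nat.card ↥F' = 20 ∧ X ≤ F' ∧ F' ⊓ Subgroup.centralizer ((X : Subgroup G) : Set G) = X ∧
      F' ⊓ Subgroup.closure (D ∩ (Subgroup.centralizer ((X : Subgroup G) : Set G) : Set G)) = ⊥ ∧
      (∀ x ∈ F', ∀ y ∈ Subgroup.closure (D ∩ (Subgroup.centralizer ((X : Subgroup G) : Set G) : Set G)),
        x * y = y * x) ∧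
      F' ⊔ Subgroup.closure (D ∩ (Subgroup.centralizer ((X : Subgroup G) : Set G) : Set G)) =
        Subgroup.normalizer ((X : Subgroup G) : Set G) ∧
      Nonempty (↥(Subgroup.closure (D ∩ (Subgroup.centralizer ((X : Subgroup G) : Set G) : Set G))) ≃*
        Equiv.Perm (Fin 5)) := by
  obtain ⟨y, rfl, hy, hy1⟩ := Loc.exists_gen (by norm_num : (5 : ℕ).Prime) hX
  obtain ⟨d, hd⟩ := five_has_fixed S hF hM hy hy1
  rw [inter_centralizer]
  exact five_local S hF hM hy hy1 hd

/-- Subgroups of order five are conjugate. -/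
theorem five_conj {X Y : Subgroup G} (hX : Nat.card X = 5) (hY : Nat.card Y = 5) :
    ∃ g : G, X.map (MulAut.conj g).toMonoidHom = Y := by
  have hpr : (5 : ℕ).Prime := by norm_num
  obtain ⟨x, rfl, hx, hx1⟩ := Loc.exists_gen hpr hX
  obtain ⟨y, rfl, hy, hy1⟩ := Loc.exists_gen hpr hY
  obtain ⟨a, ha, hxa⟩ := five_has_fixed S hF hM hx hx1
  obtain ⟨b, hb, hyb⟩ := five_has_fixed S hF hM hy hy1
  obtain ⟨h, hh⟩ := S.cls ha hb
  have h1 : (Subgroup.zpowers x).map (MulAut.conj h).toMonoidHom ≤ Subgroup.centralizer ({b} : Set G) := by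
    rw [MonoidHom.map_zpowers, Subgroup.zpowers_le]
    refine Subgroup.mem_centralizer_singleton_iff.2 ?_
    show h * x * h⁻¹ * b = b * (h * x * h⁻¹)
    rw [← hh]
    calc h * x * h⁻¹ * (h * a * h⁻¹) = h * (x * a) * h⁻¹ := by group
      _ = h * (a * x) * h⁻¹ := by rw [hxa.eq]
      _ = _ := by group
  have h2 : Subgroup.zpowers y ≤ Subgroup.centralizer ({b} : Set G) :=
    Subgroup.zpowers_le.2 (Subgroup.mem_centralizer_singleton_iff.2 hyb.eq)
  obtain ⟨g, -, hg⟩ := Loc.conj_of_card hpr h1 h2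
    (by rw [Subgroup.card_map_of_injective (MulAut.conj h).injective, hX]) hY
    (by rw [card_centralizer S hF hM hb]; norm_num)
  rw [Subgroup.map_map] at hg
  exact ⟨g * h, by rw [map_mul]; exact hg⟩

end CfsgLib.M22Sylow
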