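import Cfsg.Agent.Lib.ThreeTransp.M22Sylow.Transfer

/-!
# Groups of type `M(22)`: subgroups of order eleven
-/

set_option autoImplicit false

namespace CfsgLib.M22Sylow

open CfsgLib.ThreeTransp CfsgLib.M22
open CfsgLib.PSUAut CfsgLib.U6
open CfsgLib.UnitarySpec (psuMk)

variable {G : Type*} [Group G] [Finite G] {D : Set G} (S : Setup D) {F : Type} [Field F] [Fintype F]
  (hF : Fintype.card F = 2 ^ 2) (hM : ∀ a ∈ D, Nonempty (Model D a F))
include S hF hM

theorem eleven_link {a y : G} (ha : a ∈ D) (hy : y ^ 11 = 1) (hy1 : y ≠ 1) (hay : Commute a y)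
    {e : G} (he : e ∈ link D a) : ¬ Commute y e := by
  intro hc
  obtain ⟨A⟩ := hM a ha
  obtain ⟨h, t, ht, htp, ht1⟩ := exists_model_lift S hF hM (by norm_num : (11 : ℕ).Prime) (by norm_num)
    (by norm_num) ha A hy hy1 hay
  obtain ⟨-, haniso, -⟩ := eleven_main hF htp ht1
  obtain ⟨v, hv⟩ := A.exists_pt_of_link S hF ha he
  exact hv.1.1 (haniso v ((commute_iff_fix S hF (by norm_num : (11 : ℕ).Prime) (by norm_num) ha A ht htp he hv).1 hc)
    hv.1.2)

theorem eleven_fixSet {y : G} (hy : y ^ 11 = 1) (hy1 : y ≠ 1) : ∃ d, d ∈ D ∧ fixSet D y = {d} := by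
  have hpr : (11 : ℕ).Prime := by norm_num
  have h := fixSet_modEq S hF hM hpr hy
  have hne : (fixSet D y).Nonempty := by
    rw [Set.nonempty_iff_ne_empty]
    intro e
    rw [e, Set.ncard_empty] at h
    norm_num [Nat.ModEq] at h
  obtain ⟨d, hd⟩ := hne
  refine ⟨d, hd.1, Set.eq_singleton_iff_unique_mem.2 ⟨hd, fun e he => ?_⟩⟩
  by_contra hne
  by_cases hc : Commute d e
  · exact eleven_link S hF hM hd.1 hy hy1 hd.2.symm ⟨he.1, hne, hc⟩ he.2
  · have h2 := common_modEq S hF hM hpr hd.1 he.1 hc hy hd.2.symm he.2.symm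
    have : {f | f ∈ link D d ∩ link D e ∧ Commute y f} = ∅ :=
      Set.eq_empty_iff_forall_notMem.2 fun f hf => eleven_link S hF hM hd.1 hy hy1 hd.2.symm hf.1.1 hf.2
    rw [this, Set.ncard_empty] at h2
    norm_num [Nat.ModEq] at h2

theorem eleven_cent {d y : G} (hd : d ∈ D) (hy : y ^ 11 = 1) (hy1 : y ≠ 1) (hdy : Commute d y) :
    Nat.card ↥(Subgroup.centralizer ({d} : Set G) ⊓ Subgroup.centralizer ({y} : Set G)) ∣ 66 := by
  obtain ⟨A⟩ := hM d hd
  have hpr : (11 : ℕ).Prime := by norm_num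
  obtain ⟨h, t, ht, htp, ht1⟩ := exists_model_lift S hF hM hpr (by norm_num) (by norm_num) hd A hy hy1 hdy
  obtain ⟨hK1, -, hdvd⟩ := eleven_main hF htp ht1
  have hne : fixSub t ≠ ⊥ := fun e => by rw [e, finrank_bot] at hK1; omega
  obtain ⟨v, hv, hv0⟩ := Submodule.exists_mem_ne_zero_of_ne_bot hne
  have hsp : Submodule.span F {v} = fixSub t := Submodule.eq_of_le_of_finrank_le
    (Submodule.span_le.2 (Set.singleton_subset_iff.2 hv)) (by rw [hK1, finrank_span_singleton hv0])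
  have h2 : Nat.card (imgSub A (Subgroup.centralizer ({d} : Set G) ⊓ Subgroup.centralizer ({y} : Set G))) ∣
      Nat.card ↥(pointStab t) := by
    refine card_dvd_pointStab hF fun q hq => ?_
    obtain ⟨g, hg, s, -, -, rfl, hst⟩ := mem_imgSub hF hpr (by norm_num) A ht htp
      (fun g hg => (Subgroup.mem_centralizer_singleton_iff.1 (Subgroup.mem_inf.1 hg).2).symm) hq
    obtain ⟨c, hc⟩ : ∃ c : F, act s v = c • v := by
      have hsv : act s v ∈ fixSub t := by
        rw [mem_fixSub, ← act_comm hst, mem_fixSub.1 hv]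
      rw [← hsp] at hsv
      obtain ⟨c, hc⟩ := Submodule.mem_span_singleton.1 hsv
      exact ⟨c, hc.symm⟩
    have hc0 : c ≠ 0 := fun e => act_ne_zero s hv0 (by rw [hc, e, zero_smul])
    obtain ⟨s', hs', hs't, hs'a⟩ := scalar_fix hF hst (inv_ne_zero hc0)
    refine ⟨s', ⟨hs't, fun w hw => ?_⟩, hs'⟩
    rw [← hsp] at hw
    obtain ⟨r, rfl⟩ := Submodule.mem_span_singleton.1 hw
    rw [act_smul, hs'a, hc, smul_smul c⁻¹, inv_mul_cancel₀ hc0, one_smul]
  have hdG := Subgroup.card_subgroup_dvd_card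
    (Subgroup.centralizer ({d} : Set G) ⊓ Subgroup.centralizer ({y} : Set G))
  rw [card_eq S hF hM] at hdG
  have h3 := card_centralizer_two S hF hM hd A hdy
  have h4 : Nat.card ↥(Subgroup.centralizer ({d} : Set G) ⊓ Subgroup.centralizer ({y} : Set G)) ∣ 2 * 1023 :=
    h3 ▸ Nat.mul_dvd_mul_left 2 (h2.trans hdvd)
  exact (Nat.dvd_gcd h4 hdG).trans (by norm_num)

/-- The normaliser of a subgroup of order eleven. -/
theorem eleven_normalizer {X : Subgroup G} (hX : Nat.card X = 11) :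
    ∃ (F' : Subgroup G) (d : G), d ∈ D ∧ Nat.card ↥F' = 55 ∧ X ≤ F' ∧
      F' ⊓ Subgroup.centralizer ((X : Subgroup G) : Set G) = X ∧ F' ⊓ Subgroup.zpowers d = ⊥ ∧
      (∀ x ∈ F', ∀ y ∈ Subgroup.zpowers d, x * y = y * x) ∧
      F' ⊔ Subgroup.zpowers d = Subgroup.normalizer ((X : Subgroup G) : Set G) := by
  have hpr : (11 : ℕ).Prime := by norm_num
  obtain ⟨y, rfl, hy, hy1⟩ := Loc.exists_gen hpr hX
  obtain ⟨d, hd, hfix⟩ := eleven_fixSet S hF hM hy hy1
  have hdy : Commute d y := ((show d ∈ fixSet D y by rw [hfix]; rfl).2).symm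
  set X := Subgroup.zpowers y with hXdef
  set N := Subgroup.normalizer (X : Set G) with hNdef
  set C := Subgroup.centralizer (X : Set G) with hCdef
  have hdcomm : ∀ g ∈ N, Commute g d := by
    intro g hg
    have := fixSet_normalizer S hg (show d ∈ fixSet D y by rw [hfix]; rfl)
    rw [hfix, Set.mem_singleton_iff] at this
    exact mul_inv_eq_iff_eq_mul.1 this
  have hCN : C ≤ N := Subgroup.centralizer_le_normalizer _
  have hC : C = Subgroup.centralizer ({d} : Set G) ⊓ Subgroup.centralizer ({y} : Set G) := by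
    rw [hCdef, hXdef, centralizer_zpowers, eq_comm, inf_eq_right]
    intro g hg
    rw [← centralizer_zpowers] at hg
    exact Subgroup.mem_centralizer_singleton_iff.2 (hdcomm g (hCN hg)).eq
  have hC66 : Nat.card C ∣ 66 := hC ▸ eleven_cent S hF hM hd hy hy1 hdy
  have hXC : X ≤ C := Subgroup.zpowers_le.2 (Loc.mem_centralizer_zpowers.2 (Commute.refl y))
  have hdC : d ∈ C := Loc.mem_centralizer_zpowers.2 hdy.symm
  have hC11 : 11 ∣ Nat.card C := hX ▸ Subgroup.card_dvd_of_le hXC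
  have hd2 : orderOf d = 2 := orderOf_eq_prime (by rw [pow_two]; exact S.sqd hd) (S.tt.ne_one d hd)
  have hC2 : 2 ∣ Nat.card C := by
    have := Subgroup.card_dvd_of_le (Subgroup.zpowers_le.2 hdC)
    rwa [Nat.card_zpowers, hd2] at this
  have hp2 : ¬ 11 ^ 2 ∣ Nat.card ↥(⊤ : Subgroup G) := by
    rw [Subgroup.card_top, card_eq S hF hM]; norm_num
  obtain ⟨m, hm, hm1⟩ := Loc.sylow_count hpr (le_top (a := X)) hX hp2
  obtain ⟨k, hk, hk10⟩ := Loc.normalizer_index hpr (⊤ : Subgroup G) hX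
  rw [top_inf_eq, top_inf_eq, ← hNdef, ← hCdef] at hk
  rw [top_inf_eq, Subgroup.card_top, card_eq S hF hM, ← hNdef] at hm
  have hN : Nat.card N = 110 := by
    have hC' : Nat.card C = 22 ∨ Nat.card C = 66 := by
      obtain ⟨r, hr⟩ := (show Nat.Coprime 2 11 by norm_num).mul_dvd_of_dvd_of_dvd hC2 hC11
      have hle := Nat.le_of_dvd (by norm_num) hC66
      rw [hr] at hle hC66 ⊢
      have : r ≤ 3 := by omega
      interval_cases r <;> first | omega | (norm_num at hC66)
    have hk' : k ∈ Nat.divisors 10 := Nat.mem_divisors.2 ⟨hk10, by norm_num⟩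
    rw [show Nat.divisors 10 = {1, 2, 5, 10} from rfl] at hk'
    simp only [Finset.mem_insert, Finset.mem_singleton] at hk'
    have hm' := hm1
    unfold Nat.ModEq at hm'
    rcases hk' with rfl | rfl | rfl | rfl <;> rcases hC' with hC' | hC' <;> rw [hC'] at hk <;>
      rw [hk] at hm ⊢ <;> norm_num at hm ⊢ <;> omega
  have hC22 : Nat.card C = 22 := by
    have hle := Nat.le_of_dvd (by norm_num) hC66
    obtain ⟨r, hr⟩ := (show Nat.Coprime 2 11 by norm_num).mul_dvd_of_dvd_of_dvd hC2 hC11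
    have hd110 : Nat.card C ∣ 110 := ⟨k, by rw [← hN, hk, mul_comm]⟩
    have := (Nat.dvd_gcd hC66 hd110)
    norm_num at this
    have h22 := Nat.le_of_dvd (by norm_num) this
    have h1 : 0 < Nat.card C := Nat.card_pos
    omega
  haveI := Fact.mk (by norm_num : (5 : ℕ).Prime)
  obtain ⟨⟨s, hs⟩, hs5⟩ := exists_prime_orderOf_dvd_card' (G := N) 5 (hN ▸ by norm_num)
  rw [Subgroup.orderOf_mk] at hs5
  set F' := X ⊔ Subgroup.zpowers s with hF'
  have hFN : F' ≤ N := sup_le Subgroup.le_normalizer (Subgroup.zpowers_le.2 hs)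
  have hF55 : Nat.card F' = 55 := by
    have h1 := Loc.card_sup_le (A := X) (B := Subgroup.zpowers s) (Subgroup.zpowers_le.2 hs)
    rw [hX, Nat.card_zpowers, hs5] at h1
    have h2 : 11 ∣ Nat.card F' := hX ▸ Subgroup.card_dvd_of_le le_sup_left
    have h3 : 5 ∣ Nat.card F' := by
      have := Subgroup.card_dvd_of_le (le_sup_right : Subgroup.zpowers s ≤ F')
      rwa [Nat.card_zpowers, hs5] at this
    obtain ⟨r, hr⟩ := (show Nat.Coprime 5 11 by norm_num).mul_dvd_of_dvd_of_dvd h3 h2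
    have h4 : 0 < Nat.card F' := Nat.card_pos
    change Nat.card F' ≤ 55 at h1
    omega
  have hbot : F' ⊓ Subgroup.zpowers d = ⊥ := by
    rw [Subgroup.eq_bot_iff_card]
    refine Nat.dvd_one.1 ?_
    have h1 := Subgroup.card_dvd_of_le (inf_le_left : F' ⊓ Subgroup.zpowers d ≤ F')
    have h2 := Subgroup.card_dvd_of_le (inf_le_right : F' ⊓ Subgroup.zpowers d ≤ Subgroup.zpowers d)
    rw [Nat.card_zpowers, hd2] at h2
    rw [hF55] at h1
    exact (Nat.dvd_gcd h1 h2).trans (by norm_num)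
  refine ⟨F', d, hd, hF55, le_sup_left, ?_, hbot, fun g hg z hz => ?_, ?_⟩
  · refine (Subgroup.eq_of_le_of_card_ge (le_inf le_sup_left hXC) ?_).symm
    have h1 := Subgroup.card_dvd_of_le (inf_le_left : F' ⊓ C ≤ F')
    have h2 := Subgroup.card_dvd_of_le (inf_le_right : F' ⊓ C ≤ C)
    rw [hF55] at h1
    rw [hC22] at h2
    rw [hX]
    exact Nat.le_of_dvd (by norm_num) ((Nat.dvd_gcd h1 h2).trans (by norm_num))
  · obtain ⟨i, rfl⟩ := hz
    exact ((hdcomm g (hFN hg)).zpow_right i).eq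
  · refine Loc.sup_eq_of_card hFN (Subgroup.zpowers_le.2 ?_) hbot ?_
    · exact hCN hdC
    · rw [hN, hF55, Nat.card_zpowers, hd2]

/-- Subgroups of order eleven are conjugate. -/
theorem eleven_conj {X Y : Subgroup G} (hX : Nat.card X = 11) (hY : Nat.card Y = 11) :
    ∃ g : G, X.map (MulAut.conj g).toMonoidHom = Y := by
  obtain ⟨g, -, hg⟩ := Loc.conj_of_card (by norm_num : (11 : ℕ).Prime) (le_top (a := X)) (le_top (a := Y)) hX hY
    (by rw [Subgroup.card_top, card_eq S hF hM]; norm_num)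
  exact ⟨g, hg⟩

end CfsgLib.M22Sylow
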