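import Cfsg.Agent.Lib.ThreeTransp.M22Sylow.Five
import Cfsg.Agent.Lib.ThreeTransp.SymFix.Orbit

/-!
# Groups of type `M(22)`: orders attached to a subgroup of order five
-/

set_option autoImplicit false

namespace CfsgLib.M22Sylow

open CfsgLib.ThreeTransp CfsgLib.M22

variable {G : Type*} [Group G] [Finite G] {D : Set G} (S : Setup D) {F : Type} [Field F] [Fintype F]
  (hF : Fintype.card F = 2 ^ 2) (hM : ∀ a ∈ D, Nonempty (Model D a F))
include S hF hM

theorem five_cards {y : G} (hy : y ^ 5 = 1) (hy1 : y ≠ 1) :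
    Nat.card ↥(Subgroup.centralizer ({y} : Set G)) = 600 ∧
      Nat.card ↥(Subgroup.normalizer ((Subgroup.zpowers y : Subgroup G) : Set G)) = 2400 := by
  obtain ⟨d, hd⟩ := five_has_fixed S hF hM hy hy1
  obtain ⟨φ, hφ, hT, -⟩ := five_symm S hF hM hd hy hy1
  obtain ⟨F', hF20, hXF, hFC, hFH, hcom, hsup, -⟩ := five_local S hF hM hy hy1 hd
  have hX : Nat.card (Subgroup.zpowers y) = 5 := by
    haveI := Fact.mk (by norm_num : (5 : ℕ).Prime)
    rw [Nat.card_zpowers, orderOf_eq_prime hy hy1]
  set T := fixSet D y with hTdef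
  set X := Subgroup.zpowers y with hXdef
  set N := Subgroup.normalizer (X : Set G) with hN
  set C := Subgroup.centralizer (X : Set G) with hC
  have hCN : C ≤ N := Subgroup.centralizer_le_normalizer _
  have hHC : Subgroup.closure T ≤ C := (Subgroup.closure_le C).2 fun u hu => Loc.mem_centralizer_zpowers.2 hu.2
  have hH : Nat.card ↥(Subgroup.closure T) = 120 := SymFix.card_closure hφ hT
  have h10 : (SymFix.swaps 5).ncard * 2 = 5 * (5 - 1) := by rw [SymFix.ncard_swaps]; decide
  obtain ⟨hN', -⟩ := SymFix.card_eq_factorial_mul hφ hT (by norm_num) h10 N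
    (fun g hg e he => fixSet_normalizer S hg he) (hHC.trans hCN)
  obtain ⟨hC', -⟩ := SymFix.card_eq_factorial_mul hφ hT (by norm_num) h10 C
    (fun g hg e he => fixSet_normalizer S (hCN hg) he) hHC
  rw [show Nat.factorial 5 = 120 from rfl] at hN' hC'
  have hFN : F' ≤ N := hsup ▸ le_sup_left
  have hFT : F' ≤ Subgroup.centralizer T := fun g hg => Subgroup.mem_centralizer_iff.2 fun z hz =>
    (hcom g hg z (Subgroup.subset_closure hz)).symm
  have hN2400 : Nat.card N = 2400 := by
    refine le_antisymm ?_ ?_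
    · rw [← hsup]
      refine (Loc.card_sup_le (A := F') fun z hz => ?_).trans (by rw [hF20, hH])
      refine Subgroup.mem_normalizer_iff.2 fun x => ⟨fun hx => ?_, fun hx => ?_⟩
      · rwa [← hcom x hx z hz, mul_inv_cancel_right]
      · have h := hcom _ hx z hz
        have h' : x * z = z * x := by
          have := congrArg (fun w => z⁻¹ * w * z) h
          simpa [mul_assoc] using this
        rwa [← h', mul_inv_cancel_right] at hx
    · have := Loc.card_mul_le_sup hFH
      rwa [hsup, hF20, hH] at this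
  have hF' : F' = N ⊓ Subgroup.centralizer T :=
    Subgroup.eq_of_le_of_card_ge (le_inf hFN hFT) (by omega)
  have hK : C ⊓ Subgroup.centralizer T = X := by
    rw [← hFC, hF', inf_right_comm, inf_eq_right.2 hCN]
  rw [hK, hX] at hC'
  rw [← centralizer_zpowers y]
  exact ⟨hC', hN2400⟩

end CfsgLib.M22Sylow
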