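import Cfsg.Agent.Lib.ThreeTransp.M22Sylow.Transfer
import Cfsg.Agent.Lib.SporMisc.S5Hom

/-!
# Groups of type `M(22)`: the members fixed by an element of order five
-/

set_option autoImplicit false

namespace CfsgLib.M22Sylow

open CfsgLib.ThreeTransp CfsgLib.M22
open CfsgLib.PSUAut CfsgLib.U6
open CfsgLib.UnitarySpec (psuMk)
open Equiv (swap)

/-- The ten transpositions of degree five. -/
def tenSwaps : Fin 10 → Equiv.Perm (Fin 5) :=
  ![swap 0 1, swap 1 2, swap 2 3, swap 3 4, swap 0 2, swap 1 3, swap 2 4, swap 0 3, swap 1 4, swap 0 4]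

theorem tenSwaps_injective : Function.Injective tenSwaps := by decide +kernel

theorem tenSwaps_isSwap : ∀ i, (tenSwaps i).IsSwap := by
  intro i
  fin_cases i <;> exact ⟨_, _, by decide, rfl⟩

theorem perm5_central : ∀ σ : Equiv.Perm (Fin 5), σ * swap 0 1 = swap 0 1 * σ → σ * swap 1 2 = swap 1 2 * σ →
    σ * swap 2 3 = swap 2 3 * σ → σ * swap 3 4 = swap 3 4 * σ → σ = 1 := by decide +kernel

variable {G : Type*} [Group G] [Finite G] {D : Set G} (S : Setup D) {F : Type} [Field F] [Fintype F]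
  (hF : Fintype.card F = 2 ^ 2) (hM : ∀ a ∈ D, Nonempty (Model D a F))
include S hF hM

/-- A member fixed by an element of order five has three neighbours fixed by it, pairwise non-commuting. -/
theorem five_nbrs {a y : G} (ha : a ∈ D) (hy : y ^ 5 = 1) (hy1 : y ≠ 1) (hay : Commute a y) :
    {e | e ∈ link D a ∧ Commute y e}.ncard = 3 ∧
      ∀ e ∈ link D a, ∀ f ∈ link D a, Commute y e → Commute y f → e ≠ f → ¬ Commute e f := by
  classical
  have hpr : (5 : ℕ).Prime := by norm_num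
  obtain ⟨A⟩ := hM a ha
  obtain ⟨h, t, ht, htp, ht1⟩ := exists_model_lift S hF hM hpr (by norm_num) (by norm_num) ha A hy hy1 hay
  have hmod := link_modEq S hF hM hpr ha hy hay
  have hcount := A.card_link_filter S hF ha (fun e => Commute y e) (fun v => v ∈ fixSub t)
    fun e le v hv => commute_iff_fix S hF hpr (by norm_num) ha A ht htp le hv
  obtain ⟨e₀, he₀, hye₀⟩ : {e | e ∈ link D a ∧ Commute y e}.Nonempty := by
    apply Set.nonempty_of_ncard_ne_zero
    intro h0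
    rw [h0] at hmod
    norm_num [Nat.ModEq] at hmod
  obtain ⟨v₀, hv₀⟩ := A.exists_pt_of_link S hF ha he₀
  obtain ⟨hK2, -⟩ := five_main hF htp ht1 hv₀.1.1
    ((commute_iff_fix S hF hpr (by norm_num) ha A ht htp he₀ hv₀).1 hye₀)
  have hK15 : Nat.card {v : Fin 6 → F // v ∈ fixSub t ∧ v ≠ 0} = 15 := by
    rw [show Nat.card {v : Fin 6 → F // v ∈ fixSub t ∧ v ≠ 0} = ((fixSub t : Set (Fin 6 → F)) \ {0}).ncard from
      Nat.card_coe_set_eq _, Set.ncard_diff_singleton_of_mem (fixSub t).zero_mem, ← Nat.card_coe_set_eq,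
      SetLike.coe_sort_coe, card_sub hF, hK2]
    rfl
  have hle : Nat.card {v : Fin 6 → F // Isot 2 v ∧ v ∈ fixSub t} ≤ 15 := by
    rw [← hK15]
    exact Nat.card_le_card_of_injective (fun v => ⟨v.1, v.2.2, v.2.1.1⟩) fun v w e => Subtype.ext (congrArg (fun z => z.1) e)
  have h3 : {e | e ∈ link D a ∧ Commute y e}.ncard = 3 := by
    have h5 : {e | e ∈ link D a ∧ Commute y e}.ncard ≤ 5 := by omega
    unfold Nat.ModEq at hmod
    omega
  refine ⟨h3, fun e he f hf hye hyf hne hc => ?_⟩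
  obtain ⟨u, hu⟩ := A.exists_pt_of_link S hF ha he
  obtain ⟨v, hv⟩ := A.exists_pt_of_link S hF ha hf
  have hu' := (commute_iff_fix S hF hpr (by norm_num) ha A ht htp he hu).1 hye
  have hv' := (commute_iff_fix S hF hpr (by norm_num) ha A ht htp hf hv).1 hyf
  have huv := (A.comm_iff S hF ha he hf hu hv).1 hc
  have hlt : Submodule.span F {u} < Submodule.span F {u, v} := by
    refine lt_of_le_of_ne (Submodule.span_mono (by simp)) fun heq => A.notMem S hF ha he hf hu hv hne ?_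
    rw [heq]
    exact Submodule.subset_span (by simp)
  have hspan : Submodule.span F {u, v} = fixSub t := by
    refine Submodule.eq_of_le_of_finrank_le (Submodule.span_le.2 ?_) ?_
    · rintro x (rfl | rfl)
      exacts [hu', hv']
    · have := Submodule.finrank_lt_finrank_of_lt hlt
      rw [finrank_span_singleton hu.1.1] at this
      rw [hK2]; omega
  have hiso : ∀ w ∈ fixSub t, w ≠ 0 → Isot 2 w := by
    intro w hw hw0
    rw [← hspan, Submodule.mem_span_pair] at hw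
    obtain ⟨r, s, rfl⟩ := hw
    refine ⟨hw0, ?_⟩
    simp only [add_left hF, add_right hF, U6.smul_left hF, U6.smul_right hF, hu.1.2, hv.1.2, huv,
      (comm_zero hF).1 huv, mul_zero, add_zero]
  have h15 : 15 ≤ Nat.card {v : Fin 6 → F // Isot 2 v ∧ v ∈ fixSub t} := by
    rw [← hK15]
    exact Nat.card_le_card_of_injective (fun v => ⟨v.1, hiso _ v.2.1 v.2.2, v.2.1⟩)
      fun v w e => Subtype.ext (congrArg (fun z => z.1) e)
  omega

/-- Two non-commuting fixed members have exactly one common fixed neighbour. -/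
theorem five_common {a c y : G} (ha : a ∈ D) (hc : c ∈ D) (hnc : ¬ Commute a c) (hy : y ^ 5 = 1) (hy1 : y ≠ 1)
    (hay : Commute a y) (hcy : Commute c y) :
    {e | e ∈ link D a ∩ link D c ∧ Commute y e}.ncard = 1 := by
  have h := common_modEq S hF hM (by norm_num : (5 : ℕ).Prime) ha hc hnc hy hay hcy
  have h3 := (five_nbrs S hF hM ha hy hy1 hay).1
  have hle : {e | e ∈ link D a ∩ link D c ∧ Commute y e}.ncard ≤ 3 :=
    h3 ▸ Set.ncard_le_ncard (fun e he => ⟨he.1.1, he.2⟩) (Set.toFinite _)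
  unfold Nat.ModEq at h
  omega

/-- There are ten fixed members. -/
theorem five_ten {d y : G} (hd : d ∈ fixSet D y) (hy : y ^ 5 = 1) (hy1 : y ≠ 1) :
    (fixSet D y).ncard = 10 := by
  set T := {e | e ∈ link D d ∧ Commute y e} with hT
  set U := {e | e ∈ fixSet D y ∧ ¬ Commute d e} with hU
  obtain ⟨h3, hpair⟩ := five_nbrs S hF hM hd.1 hy hy1 hd.2.symm
  have hcnt := count_pairs (s := U) (t := T) (fun e x => x ∈ link D e) (m := 1) (n := 2) (fun e he => by
    rw [← five_common S hF hM hd.1 he.1.1 he.2 hy hy1 hd.2.symm he.1.2.symm]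
    congr 1
    ext x
    exact ⟨fun h => ⟨⟨h.1.1, h.2⟩, h.1.2⟩, fun h => ⟨⟨h.1.1, h.2⟩, h.1.2⟩⟩) (fun x hx => by
    obtain ⟨hx3, -⟩ := five_nbrs S hF hM hx.1.1 hy hy1 hx.2.symm
    have hdx : d ∈ {e | e ∈ link D x ∧ Commute y e} := ⟨link_swap hd.1 hx.1, hd.2⟩
    rw [show {e | e ∈ U ∧ x ∈ link D e} = {e | e ∈ link D x ∧ Commute y e} \ {d} from ?_,
      Set.ncard_diff_singleton_of_mem hdx, hx3]
    ext e
    constructor
    · rintro ⟨⟨he, hde⟩, hxe⟩
      exact ⟨⟨link_swap he.1 hxe, he.2⟩, fun h => hde (by rw [Set.mem_singleton_iff] at h; subst h; exact Commute.refl _)⟩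
    · rintro ⟨⟨hex, hye⟩, hed⟩
      refine ⟨⟨⟨hex.1, hye⟩, fun hc => ?_⟩, link_swap hx.1.1 hex⟩
      exact hpair x hx.1 e ⟨hex.1, hed, hc⟩ hx.2 hye hex.2.1.symm hex.2.2)
  rw [h3] at hcnt
  have hun : fixSet D y = insert d T ∪ U := by
    ext e
    constructor
    · intro he
      by_cases hc : Commute d e
      · by_cases hed : e = d
        · exact Or.inl (Or.inl hed)
        · exact Or.inl (Or.inr ⟨⟨he.1, hed, hc⟩, he.2⟩)
      · exact Or.inr ⟨he, hc⟩
    · rintro ((rfl | h) | h)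
      exacts [hd, ⟨h.1.1, h.2⟩, h.1]
  have hdis : Disjoint (insert d T) U := by
    rw [Set.disjoint_left]
    rintro e (rfl | h) ⟨-, hc⟩
    · exact hc (Commute.refl _)
    · exact hc h.1.2.2
  rw [hun, Set.ncard_union_eq hdis, Set.ncard_insert_of_notMem (fun h : d ∈ T => h.1.2.1 rfl), h3]
  omega

/-- The fixed members are the transpositions of a symmetric group of degree five. -/
theorem five_symm {d y : G} (hd : d ∈ fixSet D y) (hy : y ^ 5 = 1) (hy1 : y ≠ 1) :
    ∃ φ : Equiv.Perm (Fin 5) →* G, Function.Injective φ ∧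
      fixSet D y = φ '' {σ | σ.IsSwap} ∧ φ (swap 0 1) = d := by
  obtain ⟨h3, hpair⟩ := five_nbrs S hF hM hd.1 hy hy1 hd.2.symm
  obtain ⟨x, z, w, hxz, -, -, hset⟩ := Set.ncard_eq_three.1 h3
  have hx : x ∈ {e | e ∈ link D d ∧ Commute y e} := by rw [hset]; simp
  have hz : z ∈ {e | e ∈ link D d ∧ Commute y e} := by rw [hset]; simp
  obtain ⟨hx3, hxpair⟩ := five_nbrs S hF hM hx.1.1 hy hy1 hx.2.symm
  have hdx : d ∈ {e | e ∈ link D x ∧ Commute y e} := ⟨link_swap hd.1 hx.1, hd.2⟩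
  obtain ⟨b, hb⟩ : ({e | e ∈ link D x ∧ Commute y e} \ {d}).Nonempty := by
    apply Set.nonempty_of_ncard_ne_zero
    rw [Set.ncard_diff_singleton_of_mem hdx, hx3]; norm_num
  have hnxz : ¬ Commute x z := hpair x hx.1 z hz.1 hx.2 hz.2 hxz
  have hndb : ¬ Commute d b := hxpair d hdx.1 b hb.1.1 hd.2 hb.1.2 (Ne.symm hb.2)
  have hnbz : ¬ Commute b z := by
    intro hc
    have h1 := five_common S hF hM hd.1 hb.1.1.1 hndb hy hy1 hd.2.symm hb.1.2.symm
    obtain ⟨w, hw⟩ := Set.ncard_eq_one.1 h1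
    have hzb : z ≠ b := fun h => hndb (h ▸ hz.1.2.2)
    have e1 : x ∈ ({w} : Set G) := hw ▸ ⟨⟨hx.1, link_swap hx.1.1 hb.1.1⟩, hx.2⟩
    have e2 : z ∈ ({w} : Set G) := hw ▸ ⟨⟨hz.1, ⟨hz.1.1, hzb, hc⟩⟩, hz.2⟩
    exact hxz (e1.trans e2.symm)
  obtain ⟨φ, p0, p1, p2, p3⟩ := CfsgLib.SporMisc.exists_hom_symm5 (a := d) (b := b) (c := z) (e := x)
    (S.sqd hd.1) (S.sqd hb.1.1.1) (S.sqd hz.1.1) (S.sqd hx.1.1) (S.tt.braid hd.1 hb.1.1.1 hndb)
    (S.tt.braid hb.1.1.1 hz.1.1 hnbz) (S.tt.braid hz.1.1 hx.1.1 fun h => hnxz h.symm)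
    hz.1.2.2.eq hx.1.2.2.eq hb.1.1.2.2.symm.eq
  have hinj : Function.Injective φ := by
    rw [← MonoidHom.ker_eq_bot_iff]
    by_contra hne
    have halt := Equiv.Perm.alternatingGroup_le_of_normal (α := Fin 5) (by simp) (N := φ.ker)
      ((Subgroup.nontrivial_iff_ne_bot _).2 hne)
    have h1 : φ (swap 0 1 * swap 2 3) = 1 := halt (Equiv.Perm.mem_alternatingGroup.2 (by decide))
    rw [map_mul, p0, p2, mul_eq_one_iff_eq_inv, S.tt.inv_eq hz.1.1] at h1
    exact hz.1.2.1 h1.symm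
  have hfix : ∀ σ : Equiv.Perm (Fin 5), σ.IsSwap → φ σ ∈ fixSet D y := by
    have hcomm : ∀ σ : Equiv.Perm (Fin 5), Commute y (φ σ) := by
      intro σ
      have hσ : σ ∈ Submonoid.closure (Set.range fun i : Fin 4 ↦ swap i.castSucc i.succ) := by
        rw [Equiv.Perm.mclosure_swap_castSucc_succ]; trivial
      induction hσ using Submonoid.closure_induction with
      | mem s hs =>
        obtain ⟨i, rfl⟩ := hs
        fin_cases i
        · exact p0.symm ▸ hd.2
        · exact p1.symm ▸ hb.1.2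
        · exact p2.symm ▸ hz.2
        · exact p3.symm ▸ hx.2
      | one => rw [map_one]; exact Commute.one_right y
      | mul u v _ _ h1 h2 => rw [map_mul]; exact h1.mul_right h2
    rintro σ ⟨i, j, hij, rfl⟩
    obtain ⟨g, hg⟩ := isConj_iff.1 (Equiv.Perm.isConj_swap (show (0 : Fin 5) ≠ 1 by decide) hij)
    refine ⟨?_, hcomm _⟩
    rw [← hg, map_mul, map_mul, map_inv, p0]
    exact S.tt.conj _ d hd.1
  refine ⟨φ, hinj, (Set.eq_of_subset_of_ncard_le ?_ ?_ (Set.toFinite _)).symm, p0⟩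
  · rintro _ ⟨σ, hσ, rfl⟩
    exact hfix σ hσ
  · rw [five_ten S hF hM hd hy hy1, Set.ncard_image_of_injective _ hinj]
    have h10 : (Set.range tenSwaps).ncard = 10 := by
      rw [← Set.image_univ, Set.ncard_image_of_injective _ tenSwaps_injective, Set.ncard_univ, Nat.card_fin]
    rw [← h10]
    exact Set.ncard_le_ncard (by rintro _ ⟨i, rfl⟩; exact tenSwaps_isSwap i) (Set.toFinite _)

end CfsgLib.M22Sylow
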