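import Cfsg.Agent.Lib.ThreeTransp.M22Sylow.Linear

/-!
# Fixed spaces of elements of order `5`, `7`, `11` in `SU₆(2)`
-/

set_option autoImplicit false

namespace CfsgLib.M22Sylow

open CfsgLib.PSUAut CfsgLib.U6
open CfsgLib.UnitarySpec (psuMk)

variable {F : Type} [Field F] [Fintype F]

local notation "V6" => Fin 6 → F
local notation "H6" => Cfsg.hermForm 6 F 2
local notation "SU6" => (Cfsg.SU 6 F 2)
local notation "PSU6" => (Cfsg.PSU 6 F 2)

/-- The centraliser of `t` fixing the fixed space of `t` pointwise. -/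
def pointStab (t : SU6) : Subgroup SU6 where
  carrier := {s | Commute s t ∧ ∀ v ∈ fixSub t, act s v = v}
  one_mem' := ⟨Commute.one_left t, fun v _ => act_one v⟩
  mul_mem' := fun {a b} ha hb => ⟨ha.1.mul_left hb.1, fun v hv => by rw [act_mul, hb.2 v hv, ha.2 v hv]⟩
  inv_mem' := fun {a} ha => ⟨ha.1.inv_left, fun v hv => by conv_lhs => rw [← ha.2 v hv, act_inv_apply]⟩

theorem act_comm {s t : SU6} (h : Commute s t) (v : V6) : act s (act t v) = act t (act s v) := by
  rw [← act_mul, ← act_mul, h.eq]

theorem act_pow_succ (t : SU6) (n : ℕ) (y : V6) : act (t ^ (n + 1)) y = act t (act (t ^ n) y) := by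
  rw [pow_succ', act_mul]

variable (hF : Fintype.card F = 2 ^ 2)
include hF

theorem form_zero_of_all {z : V6} (h : ∀ w, H6 w z = 0) : z = 0 := by
  by_contra hz
  obtain ⟨σ, hσ⟩ := exists_sigma hF
  obtain ⟨y, hy⟩ := exists_partner hF hσ hz
  rw [h y] at hy
  exact zero_ne_one hy

theorem pow_two_ne {o : F} (ho0 : o ≠ 0) (ho1 : o ≠ 1) : o + o * o ≠ 0 := fun e => by
  have e' : o * (1 + o) = 0 := by linear_combination e
  rcases mul_eq_zero.1 e' with h | h
  · exact ho0 h
  · exact ho1 (by linear_combination h - add_self hF 1)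

omit hF in
/-- The kernel of `x² + ox + 1`. -/
theorem quad_exists (t : SU6) (o : F) : ∃ P : Submodule F V6,
    ∀ w, w ∈ P ↔ act t (act t w) + o • act t w + w = 0 :=
  ⟨LinearMap.ker ((lin t).comp (lin t) + o • lin t + LinearMap.id), fun w => by
    simp [LinearMap.mem_ker, lin_apply]⟩

section five

variable {t : ↥(Cfsg.SU 6 F 2)} (ht : t ^ 5 = 1)
include ht

omit hF in
theorem act_five (y : V6) : act t (act t (act t (act t (act t y)))) = y := by
  simp only [← act_mul]
  rw [show t * (t * (t * (t * t))) = t ^ 5 by simp only [pow_succ, pow_zero, one_mul, mul_assoc], ht, act_one]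

/-- A polynomial kernel for an element of order five. -/
theorem five_quad {o : F} (ho0 : o ≠ 0) (ho1 : o ≠ 1) {P : Submodule F V6}
    (hP : ∀ w, w ∈ P ↔ act t (act t w) + o • act t w + w = 0) :
    (∀ w ∈ P, act t w ∈ P) ∧ P ⊓ fixSub t = ⊥ ∧ (∀ p ∈ P, ∀ q ∈ P, H6 p q = 0) ∧
      ∀ p ∈ P, ∀ k ∈ fixSub t, H6 p k = 0 := by
  refine ⟨fun w hw => ?_, ?_, fun p hp q hq => ?_, fun p hp k hk => ?_⟩
  · have := congrArg (act t) ((hP w).1 hw)
    simp only [act_add, act_smul, act_zero] at this
    exact (hP _).2 this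
  · rw [eq_bot_iff]
    rintro w ⟨hw, hf⟩
    have hw' := (hP w).1 hw
    rw [mem_fixSub.1 hf, mem_fixSub.1 hf] at hw'
    have h2 : o • w = 0 := by linear_combination (norm := module) hw' - add_self hF 1 • w
    exact (Submodule.mem_bot F).2 ((smul_eq_zero.1 h2).resolve_left ho0)
  · have hpre : ∀ q ∈ P, ∃ q' ∈ P, act t q' = q := by
      intro q hq
      refine ⟨act t (act t (act t (act t q))), ?_, act_five ht q⟩
      have hinv : ∀ w ∈ P, act t w ∈ P := fun w hw => by
        have := congrArg (act t) ((hP w).1 hw)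
        simp only [act_add, act_smul, act_zero] at this
        exact (hP _).2 this
      exact hinv _ (hinv _ (hinv _ (hinv _ hq)))
    have key : ∀ q ∈ P, H6 p (act t q) = 0 := by
      intro q hq
      have h1 := congrArg (fun z => H6 z (act t (act t q))) ((hP p).1 hp)
      have h2 := congrArg (fun z => H6 p z) ((hP q).1 hq)
      simp only [add_left hF, smul_left hF, zero_left hF, act_form] at h1
      simp only [add_right hF, smul_right hF, zero_right hF] at h2
      have h3 : (o + o * o) * H6 p (act t q) = 0 := by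
        linear_combination h1 + h2 - add_self hF (H6 p q) - add_self hF (H6 p (act t (act t q)))
      exact (mul_eq_zero.1 h3).resolve_left (pow_two_ne hF ho0 ho1)
    obtain ⟨q', hq', rfl⟩ := hpre q hq
    exact key q' hq'
  · have h1 := congrArg (fun z => H6 z k) ((hP p).1 hp)
    have hk' : ∀ z, H6 (act t z) k = H6 z k := fun z => by
      conv_lhs => rw [← mem_fixSub.1 hk, act_form]
    simp only [add_left hF, smul_left hF, zero_left hF, hk'] at h1
    have h3 : o * H6 p k = 0 := by linear_combination h1 - add_self hF (H6 p k)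
    exact (mul_eq_zero.1 h3).resolve_left ho0

theorem five_inv_finrank {W : Submodule F V6} (hW : ∀ w ∈ W, act t w ∈ W) (h : W ⊓ fixSub t = ⊥) :
    Module.finrank F W ∈ ({0, 2, 4, 6} : Set ℕ) := by
  have h' := modEq_fix (by norm_num : (5 : ℕ).Prime) ht W hW
  rw [h, card_sub hF, Nat.card_unique] at h'
  have := finrank_le_six W
  interval_cases hd : Module.finrank F W <;> first
    | (simp; done)
    | (norm_num [Nat.ModEq] at h')

/-- An element of order five with a fixed vector: the fixed plane, and a totally isotropic plane on which its centraliser is semiregular. -/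
theorem five_main (ht1 : t ≠ 1) {v : V6} (hv0 : v ≠ 0) (hv : v ∈ fixSub t) :
    Module.finrank F ↥(fixSub t) = 2 ∧ Nat.card ↥(pointStab t) ∣ 15 := by
  obtain ⟨o, ho0, ho1, ho, -⟩ := exists_omega hF
  have hoo0 : o * o ≠ 0 := mul_ne_zero ho0 ho0
  have hoo1 : o * o ≠ 1 := fun e => ho0 (by linear_combination ho - e - add_self hF 1)
  obtain ⟨P, hP⟩ := quad_exists t o
  obtain ⟨Q, hQ⟩ := quad_exists t (o * o)
  obtain ⟨P1, P2, P3, P4⟩ := five_quad hF ht ho0 ho1 hP
  obtain ⟨Q1, Q2, Q3, Q4⟩ := five_quad hF ht hoo0 hoo1 hQ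
  set K := fixSub t with hK
  have hdec : ∀ w : V6, w ∈ K ⊔ (P ⊔ Q) := by
    intro w
    obtain ⟨Z, hZd⟩ : ∃ Z, Z = act t w + act t (act t w) + act t (act t (act t w)) +
      act t (act t (act t (act t w))) := ⟨_, rfl⟩
    have hS : w + Z ∈ K := by
      rw [hK, mem_fixSub, hZd]
      simp only [act_add, act_five ht]
      abel
    have hz0 : Z + act t Z + act t (act t Z) + act t (act t (act t Z)) + act t (act t (act t (act t Z))) = 0 := by
      rw [hZd]
      simp only [act_add, act_five ht]
      linear_combination (norm := module) add_self hF 1 • ((2 : F) • (w + act t w + act t (act t w) +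
        act t (act t (act t w)) + act t (act t (act t (act t w)))))
    have hp0 : act t (act t Z) + (o * o) • act t Z + Z ∈ P := by
      refine (hP _).2 ?_
      simp only [act_add, act_smul]
      linear_combination (norm := module) hz0 + (ho - add_self hF 1) • (act t Z + act t (act t (act t Z))) +
        (cube_eq_one hF ho0) • act t (act t Z) + add_self hF 1 • act t (act t Z)
    have hq0 : act t (act t Z) + o • act t Z + Z ∈ Q := by
      refine (hQ _).2 ?_
      simp only [act_add, act_smul]
      linear_combination (norm := module) hz0 + (ho - add_self hF 1) • (act t Z + act t (act t (act t Z))) +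
        (cube_eq_one hF ho0) • act t (act t Z) + add_self hF 1 • act t (act t Z)
    have hsum : act t Z ∈ P ⊔ Q := by
      have := Submodule.add_mem_sup hp0 hq0
      convert this using 1
      linear_combination (norm := module) -(ho • act t Z) + add_self hF 1 • act t Z -
        add_self hF 1 • (act t (act t Z) + Z)
    have hZm : Z ∈ P ⊔ Q := by
      have hinv : ∀ z ∈ P ⊔ Q, act t z ∈ P ⊔ Q := fun z hz => by
        obtain ⟨p, hp, q, hq, rfl⟩ := Submodule.mem_sup.1 hz
        rw [act_add]
        exact Submodule.add_mem_sup (P1 p hp) (Q1 q hq)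
      have := hinv _ (hinv _ (hinv _ (hinv _ hsum)))
      rwa [act_five ht] at this
    have : w = (w + Z) + Z := by rw [add_assoc, vadd_self hF, add_zero]
    rw [this]
    exact Submodule.add_mem_sup hS hZm
  have hperp : ∀ {p : V6}, (∀ k ∈ K, H6 k p = 0) → (∀ q ∈ P, H6 q p = 0) → (∀ q ∈ Q, H6 q p = 0) → p = 0 := by
    intro p hk hp hq
    refine form_zero_of_all hF fun w => ?_
    obtain ⟨k, hk', z, hz, rfl⟩ := Submodule.mem_sup.1 (hdec w)
    obtain ⟨a, ha, b, hb, rfl⟩ := Submodule.mem_sup.1 hz
    rw [add_left hF, add_left hF, hk k hk', hp a ha, hq b hb, add_zero, add_zero]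
  have hKP : ∀ p ∈ P, ∀ k ∈ K, H6 k p = 0 := fun p hp k hk => (comm_zero hF).1 (P4 p hp k hk)
  have hKQ : ∀ p ∈ Q, ∀ k ∈ K, H6 k p = 0 := fun p hp k hk => (comm_zero hF).1 (Q4 p hp k hk)
  have hPQ : P = ⊥ ↔ Q = ⊥ := by
    constructor <;> intro h <;> rw [eq_bot_iff] <;> intro x hx <;> rw [Submodule.mem_bot]
    · exact hperp (hKQ x hx) (fun q hq => by rw [(Submodule.eq_bot_iff P).1 h q hq, zero_left hF])
        (fun q hq => Q3 q hq x hx)
    · exact hperp (hKP x hx) (fun q hq => P3 q hq x hx)
        (fun q hq => by rw [(Submodule.eq_bot_iff Q).1 h q hq, zero_left hF])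
  have hP0 : P ≠ ⊥ := by
    intro h
    refine ht1 (act_ext fun w => ?_)
    have := hdec w
    rw [h, hPQ.1 h, sup_bot_eq, sup_bot_eq] at this
    rw [act_one]
    exact mem_fixSub.1 this
  have hQ0 : Q ≠ ⊥ := fun h => hP0 (hPQ.2 h)
  have hdim : ∀ {W : Submodule F V6}, W ≠ ⊥ → (∀ w ∈ W, act t w ∈ W) → W ⊓ K = ⊥ →
      2 ≤ Module.finrank F W := by
    intro W h0 hW hWK
    have h1 : Module.finrank F W ≠ 0 := fun e => h0 (Submodule.finrank_eq_zero.1 e)
    have h2 := five_inv_finrank hF ht hW hWK
    simp only [Set.mem_insert_iff, Set.mem_singleton_iff] at h2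
    omega
  have hPQd : P ⊓ Q = ⊥ := by
    rw [eq_bot_iff]
    rintro w ⟨h1, h2⟩
    have h3 : (o + o * o) • act t w = 0 := by
      linear_combination (norm := module) (hP w).1 h1 + (hQ w).1 h2 -
        add_self hF 1 • (act t (act t w) + w)
    have h4 := (smul_eq_zero.1 h3).resolve_left (pow_two_ne hF ho0 ho1)
    rw [Submodule.mem_bot]
    by_contra hw
    exact act_ne_zero t hw h4
  have hKd : K ⊓ (P ⊔ Q) = ⊥ := by
    rw [eq_bot_iff]
    rintro w ⟨hwK, hwPQ⟩
    rw [Submodule.mem_bot]
    obtain ⟨p, hp, q, hq, rfl⟩ := Submodule.mem_sup.1 hwPQ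
    have hp' : act t p - p ∈ P ⊓ Q := by
      refine ⟨sub_mem (P1 p hp) hp, ?_⟩
      have hfix := mem_fixSub.1 hwK
      rw [act_add] at hfix
      rw [show act t p - p = q - act t q by linear_combination (norm := module) hfix]
      exact sub_mem hq (Q1 q hq)
    rw [hPQd, Submodule.mem_bot, sub_eq_zero] at hp'
    have hp0 : p = 0 := (Submodule.mem_bot F).1 (P2 ▸ ⟨hp, mem_fixSub.2 hp'⟩)
    subst hp0
    rw [zero_add] at hwK ⊢
    exact (Submodule.mem_bot F).1 (Q2 ▸ ⟨hq, hwK⟩)
  have htop : K ⊔ (P ⊔ Q) = ⊤ := eq_top_iff.2 fun w _ => hdec w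
  have hsum : Module.finrank F K + (Module.finrank F P + Module.finrank F Q) = 6 := by
    have h1 := Submodule.finrank_sup_add_finrank_inf_eq K (P ⊔ Q)
    have h2 := Submodule.finrank_sup_add_finrank_inf_eq P Q
    rw [htop, hKd, finrank_top, finrank_bot, add_zero, Module.finrank_fintype_fun_eq_card,
      Fintype.card_fin] at h1
    rw [hPQd, finrank_bot, add_zero] at h2
    omega
  have hKdim : 2 ≤ Module.finrank F K := by
    have h' := modEq_fix (by norm_num : (5 : ℕ).Prime) ht ⊤ (fun w _ => Submodule.mem_top)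
    rw [top_inf_eq, card_sub hF, card_sub hF, finrank_top, Module.finrank_fintype_fun_eq_card,
      Fintype.card_fin, ← hK] at h'
    have h1 : Module.finrank F K ≠ 0 := fun e =>
      hv0 ((Submodule.eq_bot_iff K).1 (Submodule.finrank_eq_zero.1 e) v hv)
    by_contra h2
    rw [show Module.finrank F K = 1 by omega] at h'
    norm_num [Nat.ModEq] at h'
  have hPd := hdim hP0 P1 P2
  have hQd := hdim hQ0 Q1 Q2
  refine ⟨by omega, ?_⟩
  have hΩ : Nat.card ↥({w | w ∈ P ∧ w ≠ 0} : Set V6) = 15 := by
    rw [Nat.card_coe_set_eq, show {w | w ∈ P ∧ w ≠ 0} = (P : Set V6) \ {0} from rfl,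
      Set.ncard_diff_singleton_of_mem P.zero_mem, ← Nat.card_coe_set_eq, SetLike.coe_sort_coe, card_sub hF,
      show Module.finrank F P = 2 by omega]
    rfl
  rw [← hΩ]
  refine card_dvd_of_free _ _ (fun s hs w hw => ⟨?_, act_ne_zero s hw.2⟩) fun s hs w hw hsw => ?_
  · refine (hP _).2 ?_
    have := congrArg (act s) ((hP w).1 hw.1)
    simp only [act_add, act_smul, act_zero, act_comm hs.1] at this
    exact this
  · have hsP : ∀ p ∈ P, act s p = p := by
      have hPs : P ⊓ fixSub s = P := by
        refine Submodule.eq_of_le_of_finrank_le inf_le_left ?_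
        have h1 : P ⊓ fixSub s ≠ ⊥ := fun e =>
          hw.2 ((Submodule.eq_bot_iff _).1 e w ⟨hw.1, mem_fixSub.2 hsw⟩)
        have h2 := hdim h1 (fun z hz => ⟨P1 z hz.1, mem_fixSub.2 (by
          rw [act_comm hs.1, mem_fixSub.1 hz.2])⟩) (by rw [inf_right_comm, P2, bot_inf_eq])
        omega
      exact fun p hp => mem_fixSub.1 (hPs.ge hp).2
    refine act_ext fun z => ?_
    obtain ⟨k, hk, y, hy, rfl⟩ := Submodule.mem_sup.1 (hdec z)
    obtain ⟨p, hp, q, hq, rfl⟩ := Submodule.mem_sup.1 hy
    have hsq : act s q ∈ Q := (hQ _).2 (by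
      have := congrArg (act s) ((hQ q).1 hq)
      simp only [act_add, act_smul, act_zero, act_comm hs.1] at this
      exact this)
    have hq' : act s q - q = 0 := by
      refine hperp (fun a ha => hKQ _ (sub_mem hsq hq) a ha) (fun a ha => ?_)
        (fun a ha => Q3 a ha _ (sub_mem hsq hq))
      have e1 : H6 a (act s q) = H6 a q := by conv_lhs => rw [← hsP a ha, act_form]
      have e2 : H6 a (act s q) = H6 a (act s q - q) + H6 a q := by rw [← add_right hF, sub_add_cancel]
      rw [e1] at e2
      exact (add_eq_right.1 e2.symm)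
    rw [act_one, act_add, act_add, hs.2 k hk, hsP p hp, sub_eq_zero.1 hq']

end five

section seven

variable {t : ↥(Cfsg.SU 6 F 2)} (ht : t ^ 7 = 1)
include ht

omit hF in
theorem act_seven (y : V6) : act t (act t (act t (act t (act t (act t (act t y)))))) = y := by
  simp only [← act_mul]
  rw [show t * (t * (t * (t * (t * (t * t))))) = t ^ 7 by simp only [pow_succ, pow_zero, one_mul, mul_assoc], ht, act_one]

theorem seven_inv_finrank {W : Submodule F V6} (hW : ∀ w ∈ W, act t w ∈ W) (h : W ⊓ fixSub t = ⊥) :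
    Module.finrank F W ∈ ({0, 3, 6} : Set ℕ) := by
  have h' := modEq_fix (by norm_num : (7 : ℕ).Prime) ht W hW
  rw [h, card_sub hF, Nat.card_unique] at h'
  have := finrank_le_six W
  interval_cases hd : Module.finrank F W <;> first
    | (simp; done)
    | (norm_num [Nat.ModEq] at h')

omit hF ht in
theorem cubic_exists : ∃ P Q : Submodule F V6,
    (∀ w, w ∈ P ↔ act t (act t (act t w)) + act t w + w = 0) ∧
    ∀ w, w ∈ Q ↔ act t (act t (act t w)) + act t (act t w) + w = 0 :=
  ⟨LinearMap.ker ((lin t).comp ((lin t).comp (lin t)) + lin t + LinearMap.id),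
    LinearMap.ker ((lin t).comp ((lin t).comp (lin t)) + (lin t).comp (lin t) + LinearMap.id),
    fun w => by simp [LinearMap.mem_ker, lin_apply], fun w => by simp [LinearMap.mem_ker, lin_apply]⟩

/-- An element of order seven: no fixed vectors, and a totally isotropic solid on which its centraliser is semiregular. -/
theorem seven_main (ht1 : t ≠ 1) :
    fixSub t = ⊥ ∧ Nat.card ↥(pointStab t) ∣ 63 ∧
      ∀ s : SU6, Commute s t → psuMk s ^ 3 = 1 → psuMk s = 1 := by
  obtain ⟨P, Q, hP, hQ⟩ := cubic_exists (t := t)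
  set K := fixSub t with hK
  have P1 : ∀ w ∈ P, act t w ∈ P := fun w hw => by
    have := congrArg (act t) ((hP w).1 hw)
    simp only [act_add, act_zero] at this
    exact (hP _).2 this
  have Q1 : ∀ w ∈ Q, act t w ∈ Q := fun w hw => by
    have := congrArg (act t) ((hQ w).1 hw)
    simp only [act_add, act_zero] at this
    exact (hQ _).2 this
  have fix0 : ∀ {w : V6}, act t w = w → w + w + w = 0 → w = 0 := fun _ h => by
    rwa [vadd_self hF, zero_add] at h
  have P2 : P ⊓ K = ⊥ := by
    rw [eq_bot_iff]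
    rintro w ⟨hw, hf⟩
    have e := mem_fixSub.1 hf
    have hw' := (hP w).1 hw
    rw [e, e, e] at hw'
    exact (Submodule.mem_bot F).2 (fix0 e hw')
  have Q2 : Q ⊓ K = ⊥ := by
    rw [eq_bot_iff]
    rintro w ⟨hw, hf⟩
    have e := mem_fixSub.1 hf
    have hw' := (hQ w).1 hw
    rw [e, e, e] at hw'
    exact (Submodule.mem_bot F).2 (fix0 e hw')
  have P3 : ∀ p ∈ P, ∀ q ∈ P, H6 p q = 0 := by
    intro p hp q hq
    have key : ∀ q ∈ P, H6 p (act t (act t q) + act t q) = 0 := by
      intro q hq
      have h1 := congrArg (fun z => H6 z (act t (act t (act t q)))) ((hP p).1 hp)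
      have h2 := congrArg (fun z => H6 p z) ((hP q).1 hq)
      simp only [add_left hF, zero_left hF, act_form] at h1
      simp only [add_right hF, zero_right hF] at h2
      rw [add_right hF]
      linear_combination h1 + h2 - add_self hF (H6 p q) - add_self hF (H6 p (act t (act t (act t q))))
    have e : q = act t (act t (act t q + q)) + act t (act t q + q) := by
      simp only [act_add]
      linear_combination (norm := module) (hP q).1 hq - add_self hF 1 • (act t (act t q) + act t q +
        act t (act t (act t q)))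
    rw [e]
    exact key _ (add_mem (P1 q hq) hq)
  have Q3 : ∀ p ∈ Q, ∀ q ∈ Q, H6 p q = 0 := by
    intro p hp q hq
    have key : ∀ q ∈ Q, H6 p (act t (act t q) + act t q) = 0 := by
      intro q hq
      have h1 := congrArg (fun z => H6 z (act t (act t (act t q)))) ((hQ p).1 hp)
      have h2 := congrArg (fun z => H6 p z) ((hQ q).1 hq)
      simp only [add_left hF, zero_left hF, act_form] at h1
      simp only [add_right hF, zero_right hF] at h2
      rw [add_right hF]
      linear_combination h1 + h2 - add_self hF (H6 p q) - add_self hF (H6 p (act t (act t (act t q))))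
    have e : q = act t (act t (act t q)) + act t (act t q) := by
      linear_combination (norm := module) (hQ q).1 hq - add_self hF 1 • (act t (act t q) +
        act t (act t (act t q)))
    rw [e]
    exact key _ (Q1 q hq)
  have hKP : ∀ p ∈ P, ∀ k ∈ K, H6 k p = 0 := fun p hp k hk => by
    have h1 := congrArg (fun z => H6 z k) ((hP p).1 hp)
    have hk' : ∀ z, H6 (act t z) k = H6 z k := fun z => by conv_lhs => rw [← mem_fixSub.1 hk, act_form]
    simp only [add_left hF, zero_left hF, hk'] at h1
    refine (comm_zero hF).1 ?_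
    linear_combination h1 - add_self hF (H6 p k)
  have hKQ : ∀ p ∈ Q, ∀ k ∈ K, H6 k p = 0 := fun p hp k hk => by
    have h1 := congrArg (fun z => H6 z k) ((hQ p).1 hp)
    have hk' : ∀ z, H6 (act t z) k = H6 z k := fun z => by conv_lhs => rw [← mem_fixSub.1 hk, act_form]
    simp only [add_left hF, zero_left hF, hk'] at h1
    refine (comm_zero hF).1 ?_
    linear_combination h1 - add_self hF (H6 p k)
  have hdec : ∀ w : V6, w ∈ K ⊔ (P ⊔ Q) := by
    intro w
    obtain ⟨Z, hZd⟩ : ∃ Z, Z = act t w + act t (act t w) + act t (act t (act t w)) +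
      act t (act t (act t (act t w))) + act t (act t (act t (act t (act t w)))) +
      act t (act t (act t (act t (act t (act t w))))) := ⟨_, rfl⟩
    have hS : w + Z ∈ K := by
      rw [hK, mem_fixSub, hZd]
      simp only [act_add, act_seven ht]
      abel
    have hz0 : Z + act t Z + act t (act t Z) + act t (act t (act t Z)) + act t (act t (act t (act t Z))) +
        act t (act t (act t (act t (act t Z)))) + act t (act t (act t (act t (act t (act t Z))))) = 0 := by
      rw [hZd]
      simp only [act_add, act_seven ht]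
      linear_combination (norm := module) add_self hF 1 • ((3 : F) • (w + act t w + act t (act t w) +
        act t (act t (act t w)) + act t (act t (act t (act t w))) + act t (act t (act t (act t (act t w)))) +
        act t (act t (act t (act t (act t (act t w)))))))
    have hp0 : act t (act t (act t Z)) + act t (act t Z) + Z ∈ P := by
      refine (hP _).2 ?_
      simp only [act_add]
      linear_combination (norm := module) hz0 + add_self hF 1 • act t (act t (act t Z))
    have hq0 : act t (act t (act t Z)) + act t Z + Z ∈ Q := by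
      refine (hQ _).2 ?_
      simp only [act_add]
      linear_combination (norm := module) hz0 + add_self hF 1 • act t (act t (act t Z))
    have hsum : act t (act t Z) + act t Z ∈ P ⊔ Q := by
      have := Submodule.add_mem_sup hp0 hq0
      convert this using 1
      linear_combination (norm := module) (-(add_self hF (1 : F))) • (act t (act t (act t Z)) + Z)
    have hinv : ∀ z ∈ P ⊔ Q, act t z ∈ P ⊔ Q := fun z hz => by
      obtain ⟨p, hp, q, hq, rfl⟩ := Submodule.mem_sup.1 hz
      rw [act_add]
      exact Submodule.add_mem_sup (P1 p hp) (Q1 q hq)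
    have hZm : Z ∈ P ⊔ Q := by
      have h2 := hinv _ (hinv _ hsum)
      have h4 := hinv _ (hinv _ h2)
      have := add_mem (add_mem hsum h2) h4
      convert this using 1
      simp only [act_add]
      linear_combination (norm := module) -hz0 + add_self hF 1 • Z
    have : w = (w + Z) + Z := by rw [add_assoc, vadd_self hF, add_zero]
    rw [this]
    exact Submodule.add_mem_sup hS hZm
  have hperp : ∀ {p : V6}, (∀ k ∈ K, H6 k p = 0) → (∀ q ∈ P, H6 q p = 0) → (∀ q ∈ Q, H6 q p = 0) → p = 0 := by
    intro p hk hp hq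
    refine form_zero_of_all hF fun w => ?_
    obtain ⟨k, hk', z, hz, rfl⟩ := Submodule.mem_sup.1 (hdec w)
    obtain ⟨a, ha, b, hb, rfl⟩ := Submodule.mem_sup.1 hz
    rw [add_left hF, add_left hF, hk k hk', hp a ha, hq b hb, add_zero, add_zero]
  have hPQ : P = ⊥ ↔ Q = ⊥ := by
    constructor <;> intro h <;> rw [eq_bot_iff] <;> intro x hx <;> rw [Submodule.mem_bot]
    · exact hperp (hKQ x hx) (fun q hq => by rw [(Submodule.eq_bot_iff P).1 h q hq, zero_left hF])
        (fun q hq => Q3 q hq x hx)
    · exact hperp (hKP x hx) (fun q hq => P3 q hq x hx)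
        (fun q hq => by rw [(Submodule.eq_bot_iff Q).1 h q hq, zero_left hF])
  have hP0 : P ≠ ⊥ := by
    intro h
    refine ht1 (act_ext fun w => ?_)
    have := hdec w
    rw [h, hPQ.1 h, sup_bot_eq, sup_bot_eq] at this
    rw [act_one]
    exact mem_fixSub.1 this
  have hQ0 : Q ≠ ⊥ := fun h => hP0 (hPQ.2 h)
  have hdim : ∀ {W : Submodule F V6}, W ≠ ⊥ → (∀ w ∈ W, act t w ∈ W) → W ⊓ K = ⊥ →
      3 ≤ Module.finrank F W := by
    intro W h0 hW hWK
    have h1 : Module.finrank F W ≠ 0 := fun e => h0 (Submodule.finrank_eq_zero.1 e)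
    have h2 := seven_inv_finrank hF ht hW hWK
    simp only [Set.mem_insert_iff, Set.mem_singleton_iff] at h2
    omega
  have hPQd : P ⊓ Q = ⊥ := by
    rw [eq_bot_iff]
    rintro w ⟨h1, h2⟩
    have e1 := (hP w).1 h1
    have e2 := (hQ w).1 h2
    have h3 : act t (act t w) = act t w := by linear_combination (norm := module) e2 - e1
    have h4 : act t w = w := by
      have := congrArg (act t⁻¹) h3
      rwa [act_inv_apply, act_inv_apply] at this
    rw [h4, h4, h4] at e1
    exact (Submodule.mem_bot F).2 (fix0 h4 e1)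
  have hKd : K ⊓ (P ⊔ Q) = ⊥ := by
    rw [eq_bot_iff]
    rintro w ⟨hwK, hwPQ⟩
    rw [Submodule.mem_bot]
    obtain ⟨p, hp, q, hq, rfl⟩ := Submodule.mem_sup.1 hwPQ
    have hp' : act t p - p ∈ P ⊓ Q := by
      refine ⟨sub_mem (P1 p hp) hp, ?_⟩
      have hfix := mem_fixSub.1 hwK
      rw [act_add] at hfix
      rw [show act t p - p = q - act t q by linear_combination (norm := module) hfix]
      exact sub_mem hq (Q1 q hq)
    rw [hPQd, Submodule.mem_bot, sub_eq_zero] at hp'
    have hp0 : p = 0 := (Submodule.mem_bot F).1 (P2 ▸ ⟨hp, mem_fixSub.2 hp'⟩)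
    subst hp0
    rw [zero_add] at hwK ⊢
    exact (Submodule.mem_bot F).1 (Q2 ▸ ⟨hq, hwK⟩)
  have htop : K ⊔ (P ⊔ Q) = ⊤ := eq_top_iff.2 fun w _ => hdec w
  have hsum : Module.finrank F K + (Module.finrank F P + Module.finrank F Q) = 6 := by
    have h1 := Submodule.finrank_sup_add_finrank_inf_eq K (P ⊔ Q)
    have h2 := Submodule.finrank_sup_add_finrank_inf_eq P Q
    rw [htop, hKd, finrank_top, finrank_bot, add_zero, Module.finrank_fintype_fun_eq_card,
      Fintype.card_fin] at h1
    rw [hPQd, finrank_bot, add_zero] at h2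
    omega
  have hPd := hdim hP0 P1 P2
  have hQd := hdim hQ0 Q1 Q2
  have hK0 : K = ⊥ := Submodule.finrank_eq_zero.1 (by omega)
  have hmapP : ∀ {s : SU6}, Commute s t → ∀ w ∈ P, act s w ∈ P := fun {s} hs w hw => (hP _).2 (by
    have := congrArg (act s) ((hP w).1 hw)
    simp only [act_add, act_zero, act_comm hs] at this
    exact this)
  have hfree : ∀ {s : SU6}, Commute s t → ∀ w ∈ P, w ≠ 0 → act s w = w → s = 1 := by
    intro s hs w hw hw0 hsw
    have hsP : ∀ p ∈ P, act s p = p := by
      have hPs : P ⊓ fixSub s = P := by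
        refine Submodule.eq_of_le_of_finrank_le inf_le_left ?_
        have h1 : P ⊓ fixSub s ≠ ⊥ := fun e =>
          hw0 ((Submodule.eq_bot_iff _).1 e w ⟨hw, mem_fixSub.2 hsw⟩)
        have h2 := hdim h1 (fun z hz => ⟨P1 z hz.1, mem_fixSub.2 (by
          rw [act_comm hs, mem_fixSub.1 hz.2])⟩) (by rw [inf_right_comm, P2, bot_inf_eq])
        omega
      exact fun p hp => mem_fixSub.1 (hPs.ge hp).2
    refine act_ext fun z => ?_
    obtain ⟨k, hk, y, hy, rfl⟩ := Submodule.mem_sup.1 (hdec z)
    obtain ⟨p, hp, q, hq, rfl⟩ := Submodule.mem_sup.1 hy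
    have hsq : act s q ∈ Q := (hQ _).2 (by
      have := congrArg (act s) ((hQ q).1 hq)
      simp only [act_add, act_zero, act_comm hs] at this
      exact this)
    have hq' : act s q - q = 0 := by
      refine hperp (fun a ha => hKQ _ (sub_mem hsq hq) a ha) (fun a ha => ?_)
        (fun a ha => Q3 a ha _ (sub_mem hsq hq))
      have e1 : H6 a (act s q) = H6 a q := by conv_lhs => rw [← hsP a ha, act_form]
      have e2 : H6 a (act s q) = H6 a (act s q - q) + H6 a q := by rw [← add_right hF, sub_add_cancel]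
      rw [e1] at e2
      exact (add_eq_right.1 e2.symm)
    rw [(Submodule.eq_bot_iff K).1 hK0 k hk, act_one, act_add, act_add, act_zero, hsP p hp, sub_eq_zero.1 hq']
  refine ⟨hK0, ?_, fun s hs h3 => ?_⟩
  · have hΩ : Nat.card ↥({w | w ∈ P ∧ w ≠ 0} : Set V6) = 63 := by
      rw [Nat.card_coe_set_eq, show {w | w ∈ P ∧ w ≠ 0} = (P : Set V6) \ {0} from rfl,
        Set.ncard_diff_singleton_of_mem P.zero_mem, ← Nat.card_coe_set_eq, SetLike.coe_sort_coe, card_sub hF,
        show Module.finrank F P = 3 by omega]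
      rfl
    rw [← hΩ]
    exact card_dvd_of_free _ _ (fun s hs w hw => ⟨hmapP hs.1 w hw.1, act_ne_zero s hw.2⟩)
      fun s hs w hw hsw => hfree hs.1 w hw.1 hw.2 hsw
  · rw [← map_pow] at h3
    obtain ⟨c, hc, hs3⟩ := scalar_of_ker hF h3
    have hc1 : c = 1 := by
      by_contra hne
      exact no_cube_scalar hF hne hs3
    have hs3' : s ^ 3 = 1 := act_ext fun y => by rw [hs3, hc1, one_smul, act_one]
    obtain ⟨p₀, hp₀, hp₀0⟩ := Submodule.exists_mem_ne_zero_of_ne_bot hP0
    obtain ⟨w, hw, hw0, a, ha⟩ := eigen_cube hF hs3' (hmapP hs) hp₀ hp₀0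
    have ha0 : a ≠ 0 := fun e => act_ne_zero s hw0 (by rw [ha, e, zero_smul])
    obtain ⟨z, hz, hza⟩ := scal hF (inv_ne_zero ha0)
    have hcz : Commute (z * s) t := by
      refine Commute.mul_left (act_ext fun y => ?_) hs
      rw [act_mul, act_mul, hza, hza, act_smul]
    have h1 := hfree hcz w hw hw0 (by rw [act_mul, ha, act_smul, hza, smul_smul, mul_inv_cancel₀ ha0, one_smul])
    have := congrArg psuMk h1
    rwa [map_mul, hz, one_mul, map_one] at this

end seven

section eleven

variable {t : ↥(Cfsg.SU 6 F 2)} (ht : t ^ 11 = 1)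
include ht

/-- An element of order eleven: an anisotropic fixed point, with semiregular centraliser on its perp. -/
theorem eleven_main (ht1 : t ≠ 1) :
    Module.finrank F ↥(fixSub t) = 1 ∧ (∀ v ∈ fixSub t, H6 v v = 0 → v = 0) ∧
      Nat.card ↥(pointStab t) ∣ 1023 := by
  set K := fixSub t with hK
  have hpr : (11 : ℕ).Prime := by norm_num
  have hK1 : Module.finrank F K = 1 := by
    have h' := modEq_fix hpr ht ⊤ (fun w _ => Submodule.mem_top)
    rw [top_inf_eq, card_sub hF, card_sub hF, finrank_top, Module.finrank_fintype_fun_eq_card,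
      Fintype.card_fin, ← hK] at h'
    have hle := finrank_le_six K
    have hne : Module.finrank F K ≠ 6 := fun e => ht1 (act_ext fun w => by
      rw [act_one]
      have : K = ⊤ := Submodule.eq_top_of_finrank_eq (by rw [e, Module.finrank_fintype_fun_eq_card, Fintype.card_fin])
      exact mem_fixSub.1 (show w ∈ K from this ▸ Submodule.mem_top))
    interval_cases hd : Module.finrank F K <;> first
      | rfl
      | omega
      | (norm_num [Nat.ModEq] at h')
  obtain ⟨v, hv, hv0⟩ := Submodule.exists_mem_ne_zero_of_ne_bot (fun e : K = ⊥ => by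
    rw [e, finrank_bot] at hK1; omega)
  have hline : ∀ w ∈ K, ∃ c : F, w = c • v := fun w hw => by
    have hsp : Submodule.span F {v} = K := Submodule.eq_of_le_of_finrank_le
      (Submodule.span_le.2 (Set.singleton_subset_iff.2 hv)) (by rw [hK1, finrank_span_singleton hv0])
    obtain ⟨c, hc⟩ := Submodule.mem_span_singleton.1 (hsp.ge hw)
    exact ⟨c, hc.symm⟩
  have haniso : H6 v v ≠ 0 := by
    intro h0
    refine hv0 (form_zero_of_all hF fun w => (comm_zero hF).1 ?_)
    obtain ⟨S, hS⟩ : ∃ S, S = ∑ i ∈ Finset.range 11, act (t ^ i) w := ⟨_, rfl⟩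
    have hSK : S ∈ K := by
      rw [hK, mem_fixSub]
      have : act t S = ∑ i ∈ Finset.range 11, act (t ^ (i + 1)) w := by
        rw [hS, ← lin_apply, map_sum]
        simp only [lin_apply, act_pow_succ]
      rw [this, hS]
      have e1 := Finset.sum_range_succ' (fun i => act (t ^ i) w) 11
      rw [Finset.sum_range_succ, ht] at e1
      simp only [pow_zero] at e1
      exact (add_right_cancel e1).symm
    obtain ⟨c, hc⟩ := hline S hSK
    have h1 : H6 v S = ∑ i ∈ Finset.range 11, H6 v (act (t ^ i) w) := by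
      rw [hS]
      let f : V6 →+ F := AddMonoidHom.mk' (fun z => H6 v z) (add_right hF v)
      exact map_sum f _ _
    have h2 : ∀ i, H6 v (act (t ^ i) w) = H6 v w := fun i => by
      conv_lhs => rw [← act_pow_fix (mem_fixSub.1 hv) i, act_form]
    rw [hc, smul_right hF, h0, mul_zero] at h1
    simp only [h2, Finset.sum_const, Finset.card_range, nsmul_eq_mul] at h1
    have h11 : ((11 : ℕ) : F) = 1 := by
      have h2F : (2 : F) = 0 := by rw [← one_add_one_eq_two]; exact add_self hF 1
      push_cast
      linear_combination (5 : F) * h2F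
    rwa [h11, one_mul, eq_comm] at h1
  refine ⟨hK1, fun u hu hu0 => ?_, ?_⟩
  · obtain ⟨c, rfl⟩ := hline u hu
    rw [smul_left hF, smul_right hF] at hu0
    rcases eq_or_ne c 0 with rfl | hc
    · exact zero_smul F v
    · exact absurd ((mul_eq_zero.1 ((mul_eq_zero.1 hu0).resolve_left hc)).resolve_left (pow_ne_zero 2 hc)) haniso
  let W : Submodule F V6 :=
    { carrier := {w | H6 w v = 0}
      zero_mem' := zero_left hF v
      add_mem' := fun {a b} ha hb => by
        show H6 (a + b) v = 0
        rw [add_left hF, show H6 a v = 0 from ha, show H6 b v = 0 from hb, add_zero]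
      smul_mem' := fun c a ha => by
        show H6 (c • a) v = 0
        rw [smul_left hF, show H6 a v = 0 from ha, mul_zero] }
  have hWK : W ⊓ K = ⊥ := by
    rw [eq_bot_iff]
    rintro w ⟨hw, hwK⟩
    obtain ⟨c, rfl⟩ := hline w hwK
    have h : H6 (c • v) v = 0 := hw
    rw [smul_left hF] at h
    rw [(mul_eq_zero.1 h).resolve_right haniso, zero_smul]
    exact Submodule.zero_mem _
  have hWinv : ∀ {s : SU6}, act s v = v → ∀ w ∈ W, act s w ∈ W := fun {s} hs w hw => by
    show H6 (act s w) v = 0
    rw [← hs, act_form]; exact hw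
  have hWtop : W ⊔ K = ⊤ := by
    refine eq_top_iff.2 fun w _ => Submodule.mem_sup.2
      ⟨w - (H6 w v / H6 v v) • v, ?_, (H6 w v / H6 v v) • v, Submodule.smul_mem _ _ hv, sub_add_cancel _ _⟩
    show H6 (w - (H6 w v / H6 v v) • v) v = 0
    have := add_left hF (w - (H6 w v / H6 v v) • v) ((H6 w v / H6 v v) • v) v
    rw [sub_add_cancel, smul_left hF, div_mul_cancel₀ _ haniso] at this
    exact add_eq_right.1 this.symm
  have hW5 : Module.finrank F W = 5 := by
    have h1 := Submodule.finrank_sup_add_finrank_inf_eq W K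
    rw [hWK, hWtop, finrank_top, finrank_bot, Module.finrank_fintype_fun_eq_card, Fintype.card_fin, hK1] at h1
    omega
  have hΩ : Nat.card ↥({w | w ∈ W ∧ w ≠ 0} : Set V6) = 1023 := by
    rw [Nat.card_coe_set_eq, show {w | w ∈ W ∧ w ≠ 0} = (W : Set V6) \ {0} from rfl,
      Set.ncard_diff_singleton_of_mem W.zero_mem, ← Nat.card_coe_set_eq, SetLike.coe_sort_coe, card_sub hF, hW5]
    rfl
  rw [← hΩ]
  refine card_dvd_of_free _ _ (fun s hs w hw => ⟨hWinv (hs.2 v hv) w hw.1, act_ne_zero s hw.2⟩)
    fun s hs w hw hsw => ?_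
  have hsub : W ⊓ fixSub s = W := by
    refine Submodule.eq_of_le_of_finrank_le inf_le_left ?_
    have h1 : Module.finrank F ↥(W ⊓ fixSub s) ≠ 0 := fun e =>
      hw.2 ((Submodule.eq_bot_iff _).1 (Submodule.finrank_eq_zero.1 e) w ⟨hw.1, mem_fixSub.2 hsw⟩)
    have h2 := modEq_fix hpr ht (W ⊓ fixSub s) fun z hz =>
      ⟨hWinv (mem_fixSub.1 hv) z hz.1, mem_fixSub.2 (by rw [act_comm hs.1, mem_fixSub.1 hz.2])⟩
    rw [inf_right_comm, hWK, bot_inf_eq, card_sub hF, Nat.card_unique] at h2
    have h3 := Submodule.finrank_mono (inf_le_left : W ⊓ fixSub s ≤ W)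
    rw [hW5] at h3 ⊢
    interval_cases hd : Module.finrank F ↥(W ⊓ fixSub s) <;> first
      | omega
      | (norm_num [Nat.ModEq] at h2)
  refine act_ext fun z => ?_
  obtain ⟨a, ha, b, hb, rfl⟩ := Submodule.mem_sup.1 (show z ∈ W ⊔ K from hWtop ▸ Submodule.mem_top)
  rw [act_one, act_add, mem_fixSub.1 (hsub.ge ha).2, hs.2 b hb]

end eleven

end CfsgLib.M22Sylow
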