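import Cfsg.Agent.Lib.ThreeTransp.U6Lines
import Cfsg.Agent.Lib.Classical.HermOrder

/-!
# Elements of prime order in `SU₆(2)`

Fixed spaces of elements of order `5`, `7`, `11`, and semiregularity of their centralisers.
-/

set_option autoImplicit false

namespace CfsgLib.M22Sylow

open CfsgLib.PSUAut CfsgLib.U6
open CfsgLib.UnitarySpec (psuMk)

variable {F : Type} [Field F] [Fintype F]

local notation "V6" => Fin 6 → F
local notation "H6" => Cfsg.hermForm 6 F 2
local notation "SU6" => (Cfsg.SU 6 F 2)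
local notation "PSU6" => (Cfsg.PSU 6 F 2)

/-- The linear map of an element. -/
def lin (s : SU6) : V6 →ₗ[F] V6 :=
  Matrix.toLin' ((s.1 : Matrix.SpecialLinearGroup (Fin 6) F) : Matrix (Fin 6) (Fin 6) F)

theorem lin_apply (s : SU6) (y : V6) : lin s y = act s y := by
  rw [lin, Matrix.toLin'_apply]; rfl

theorem det_lin (s : SU6) : LinearMap.det (lin s) = 1 := by
  rw [lin, LinearMap.det_toLin']
  exact s.1.2

/-- The fixed space of an element. -/
def fixSub (t : SU6) : Submodule F V6 := LinearMap.ker (lin t - LinearMap.id)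

theorem mem_fixSub {t : SU6} {y : V6} : y ∈ fixSub t ↔ act t y = y := by
  rw [fixSub, LinearMap.mem_ker, LinearMap.sub_apply, LinearMap.id_apply, sub_eq_zero, lin_apply]

theorem act_pow_fix {t : SU6} {y : V6} (h : act t y = y) (n : ℕ) : act (t ^ n) y = y := by
  induction n with
  | zero => rw [pow_zero, act_one]
  | succ n ih => rw [pow_succ, act_mul, h, ih]

variable (hF : Fintype.card F = 2 ^ 2)
include hF

theorem card_sub (W : Submodule F V6) : Nat.card W = 4 ^ Module.finrank F W := by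
  rw [Module.natCard_eq_pow_finrank (K := F), Nat.card_eq_fintype_card, hF]; norm_num

omit hF in
theorem finrank_le_six (W : Submodule F V6) : Module.finrank F W ≤ 6 := by
  have := Submodule.finrank_le W
  rwa [Module.finrank_fintype_fun_eq_card, Fintype.card_fin] at this

omit hF in
/-- An element of order dividing a prime permutes an invariant subspace. -/
theorem modEq_fix {p : ℕ} (hp : p.Prime) {t : SU6} (ht : t ^ p = 1) (W : Submodule F V6)
    (hW : ∀ w ∈ W, act t w ∈ W) :
    Nat.card W ≡ Nat.card ↥(W ⊓ fixSub t) [MOD p] := by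
  haveI : Fact p.Prime := ⟨hp⟩
  have hpow : ∀ g ∈ Subgroup.zpowers t, ∀ w ∈ W, act g w ∈ W := fun g hg w hw => by
    obtain ⟨k, rfl⟩ := mem_powers_iff_mem_zpowers.2 hg
    clear hg
    simp only
    induction k with
    | zero => simpa [act_one] using hw
    | succ k ih => rw [pow_succ', act_mul]; exact hW _ ih
  letI : MulAction ↥(Subgroup.zpowers t) ↥W :=
    { smul := fun g w => ⟨act g.1 w.1, hpow g.1 g.2 w.1 w.2⟩
      one_smul := fun w => Subtype.ext (act_one w.1)
      mul_smul := fun g g' w => Subtype.ext (act_mul g.1 g'.1 w.1) }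
  have hPG : IsPGroup p ↥(Subgroup.zpowers t) := by
    rintro ⟨g, hg⟩
    obtain ⟨k, rfl⟩ := hg
    refine ⟨1, Subtype.ext ?_⟩
    simp only [pow_one, SubmonoidClass.coe_pow, Subgroup.coe_one]
    rw [← zpow_natCast, ← zpow_mul, mul_comm, zpow_mul, zpow_natCast, ht, one_zpow]
  refine (hPG.card_modEq_card_fixedPoints ↥W).trans (congrArg (· % p) (Nat.card_congr ?_))
  refine
    { toFun := fun w => ⟨w.1.1, w.1.2, mem_fixSub.2 ?_⟩
      invFun := fun w => ⟨⟨w.1, w.2.1⟩, fun g => Subtype.ext ?_⟩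
      left_inv := fun _ => rfl
      right_inv := fun _ => rfl }
  · exact congrArg Subtype.val (w.2 ⟨t, Subgroup.mem_zpowers t⟩)
  · obtain ⟨g, hg⟩ := g
    obtain ⟨k, rfl⟩ := mem_powers_iff_mem_zpowers.2 hg
    exact act_pow_fix (mem_fixSub.1 w.2.2) k

/-- Scalar elements. -/
theorem scal {c : F} (hc : c ≠ 0) : ∃ z : SU6, psuMk z = 1 ∧ ∀ y, act z y = c • y := by
  have h3 := cube_eq_one hF hc
  have hdet : (Matrix.scalar (Fin 6) c).det = 1 := by
    rw [Matrix.scalar_apply, Matrix.det_diagonal, Finset.prod_const, Finset.card_univ, Fintype.card_fin,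
      show c ^ 6 = (c ^ 3) ^ 2 by ring, h3, one_pow]
  let A : Matrix.SpecialLinearGroup (Fin 6) F := ⟨Matrix.scalar (Fin 6) c, hdet⟩
  have hA : ∀ y : V6, (A : Matrix (Fin 6) (Fin 6) F).mulVec y = c • y := fun y => by
    show (Matrix.scalar (Fin 6) c).mulVec y = c • y
    funext i
    simp [Matrix.mulVec_diagonal]
  have hmem : A ∈ SU6 := fun u v => by
    change H6 ((A : Matrix (Fin 6) (Fin 6) F).mulVec u) ((A : Matrix (Fin 6) (Fin 6) F).mulVec v) = H6 u v
    rw [hA, hA, smul_left hF, smul_right hF]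
    linear_combination H6 u v * h3
  refine ⟨⟨A, hmem⟩, ?_, fun y => hA y⟩
  refine (QuotientGroup.eq_one_iff _).2 (Subgroup.mem_center_iff.2 fun g => act_ext fun y => ?_)
  rw [act_mul, act_mul, show act (⟨A, hmem⟩ : SU6) y = c • y from hA y, act_smul]
  exact (hA _).symm

theorem card_kernel : Nat.card (Subgroup.center SU6) = 3 := by
  rw [CfsgLib.Classical.card_center_su hF (by norm_num)]; rfl

theorem scalar_of_ker {z : SU6} (hz : psuMk z = 1) : ∃ c : F, c ≠ 0 ∧ ∀ y, act z y = c • y := by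
  classical
  choose f hf hfa using fun c : Fˣ => scal hF c.ne_zero
  let φ : Fˣ → Subgroup.center SU6 := fun c => ⟨f c, (QuotientGroup.eq_one_iff _).1 (hf c)⟩
  have hinj : Function.Injective φ := fun a b hab => Units.ext (by
    have := hfa a (Pi.single 0 1)
    rw [show f a = f b from congrArg Subtype.val hab, hfa] at this
    simpa using (congrFun this 0).symm)
  have hbij : Function.Bijective φ := (Nat.bijective_iff_injective_and_card _).2 ⟨hinj, by
    rw [card_kernel hF, Nat.card_eq_fintype_card, Fintype.card_units, hF]; norm_num⟩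
  obtain ⟨c, hc⟩ := hbij.2 ⟨z, (QuotientGroup.eq_one_iff _).1 hz⟩
  refine ⟨c, c.ne_zero, ?_⟩
  rw [show z = f c from (congrArg Subtype.val hc).symm]
  exact hfa c

theorem ker_cube {z : SU6} (hz : psuMk z = 1) : z ^ 3 = 1 := by
  obtain ⟨c, hc, h⟩ := scalar_of_ker hF hz
  refine act_ext fun y => ?_
  rw [pow_succ, pow_two, act_mul, act_mul, h, h, h, smul_smul, smul_smul, act_one,
    show c * c * c = c ^ 3 by ring, cube_eq_one hF hc, one_smul]

theorem exists_lift {p : ℕ} (hp : p.Prime) (h3 : p ≠ 3) {x : PSU6} (hx : x ^ p = 1) :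
    ∃ t : SU6, psuMk t = x ∧ t ^ p = 1 := by
  obtain ⟨s, rfl⟩ := QuotientGroup.mk'_surjective (Subgroup.center SU6) x
  have hs : psuMk (s ^ p) = 1 := by rw [map_pow]; exact hx
  obtain ⟨k, hk1, hk3⟩ := Nat.chineseRemainder ((Nat.coprime_primes hp Nat.prime_three).2 h3) 1 0
  refine ⟨s ^ k, ?_, ?_⟩
  · rw [map_pow]
    refine (pow_eq_pow_of_modEq hk1 hx).trans (pow_one _)
  · rw [← pow_mul, mul_comm, pow_mul]
    refine (pow_eq_pow_of_modEq hk3 (ker_cube hF hs)).trans (pow_zero _)

theorem commute_of_psuMk {p : ℕ} (hp : p.Prime) (h3 : p ≠ 3) {s t : SU6} (ht : t ^ p = 1)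
    (hc : Commute (psuMk s) (psuMk t)) : Commute s t := by
  have hz : psuMk (s * t * s⁻¹ * t⁻¹) = 1 := by
    rw [map_mul, map_mul, map_mul, map_inv, map_inv, hc.eq, mul_inv_cancel_right, mul_inv_cancel]
  obtain ⟨z, hzd⟩ : ∃ z, z = s * t * s⁻¹ * t⁻¹ := ⟨_, rfl⟩
  rw [← hzd] at hz
  have hzc : Commute z t := (Subgroup.mem_center_iff.1 ((QuotientGroup.eq_one_iff _).1 hz) t).symm
  have e : s * t * s⁻¹ = z * t := by rw [hzd]; group
  have hzp : z ^ p = 1 := by
    have := congrArg (· ^ p) e
    simp only [conj_pow, ht, hzc.mul_pow, mul_one, mul_inv_cancel] at this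
    exact this.symm
  have hz1 : z = 1 := by
    rw [← orderOf_eq_one_iff]
    exact Nat.eq_one_of_dvd_coprimes ((Nat.coprime_primes hp Nat.prime_three).2 h3)
      (orderOf_dvd_of_pow_eq_one hzp) (orderOf_dvd_of_pow_eq_one (ker_cube hF hz))
  rw [hz1, one_mul] at e
  exact mul_inv_eq_iff_eq_mul.1 e

/-- An eigenvalue of an element of prime order other than three is one. -/
theorem eigen {p : ℕ} (hp : p.Prime) (h3 : p ≠ 3) {t : SU6} (ht : t ^ p = 1) {v : V6} (hv : v ≠ 0) {c : F}
    (hc : act t v = c • v) : act t v = v := by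
  have hn : ∀ n : ℕ, act (t ^ n) v = c ^ n • v := by
    intro n
    induction n with
    | zero => rw [pow_zero, act_one, pow_zero, one_smul]
    | succ n ih => rw [pow_succ, act_mul, hc, act_smul, ih, smul_smul, pow_succ']
  have hc0 : c ≠ 0 := fun e => act_ne_zero t hv (by rw [hc, e, zero_smul])
  have h1 := hn p
  rw [ht, act_one] at h1
  have hcp : c ^ p = 1 := smul_left_injective F hv (h1.symm.trans (one_smul F v).symm)
  have : c = 1 := by
    rw [← orderOf_eq_one_iff]
    exact Nat.eq_one_of_dvd_coprimes ((Nat.coprime_primes hp Nat.prime_three).2 h3)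
      (orderOf_dvd_of_pow_eq_one hcp) (orderOf_dvd_of_pow_eq_one (cube_eq_one hF hc0))
  rw [hc, this, one_smul]

/-- No element has cube a scalar other than one. -/
theorem no_cube_scalar {s : SU6} {c : F} (hc1 : c ≠ 1) (h : ∀ y, act (s ^ 3) y = c • y) : False := by
  set L := lin s with hLdef
  have hc0 : c ≠ 0 := by
    rintro rfl
    exact act_ne_zero (s ^ 3) (y := Pi.single 0 1) (by simp) (by rw [h, zero_smul])
  have hL3 : ∀ v, L (L (L v)) = c • v := fun v => by
    rw [hLdef, lin_apply, lin_apply, lin_apply, ← act_mul, ← act_mul, ← h, pow_succ, pow_two]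
  have hno1 : ∀ (v : V6), v ≠ 0 → ∀ a : F, L v ≠ a • v := by
    intro v hv a ha
    have := hL3 v
    rw [ha, map_smul, ha, map_smul, map_smul, ha, smul_smul, smul_smul] at this
    have h' := smul_left_injective F hv this
    rcases eq_or_ne a 0 with rfl | ha0
    · exact hc0 (by simpa using h'.symm)
    · exact hc1 (by rw [← h', ← cube_eq_one hF ha0]; ring)
  have hno2 : ∀ (v : V6), v ≠ 0 → ∀ a b : F, L (L v) ≠ a • v + b • L v := by
    intro v hv a b hab
    have h3 := hL3 v
    rw [hab, map_add, map_smul, map_smul, hab] at h3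
    by_cases hq : a + b * b = 0
    · have h4 : (b * a) • v = c • v := by linear_combination (norm := module) h3 - hq • L v
      have h' := smul_left_injective F hv h4
      have hb : b ≠ 0 := fun e => hc0 (by rw [← h', e, zero_mul])
      have ha : a = b * b := by linear_combination hq - add_self hF (b * b)
      exact hc1 (by rw [← h', ha, ← cube_eq_one hF hb]; ring)
    · refine hno1 v hv ((c - b * a) / (a + b * b)) ?_
      have h4 : (a + b * b) • L v = (c - b * a) • v := by linear_combination (norm := module) h3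
      calc L v = (a + b * b)⁻¹ • ((a + b * b) • L v) := by rw [smul_smul, inv_mul_cancel₀ hq, one_smul]
        _ = _ := by rw [h4, smul_smul, div_eq_inv_mul]
  let fam : V6 → Fin 3 → V6 := fun v => ![v, L v, L (L v)]
  have hli : ∀ v : V6, v ≠ 0 → LinearIndependent F (fam v) := by
    intro v hv
    rw [Fintype.linearIndependent_iff]
    intro g hg
    simp only [fam, Fin.sum_univ_three, Matrix.cons_val_zero, Matrix.cons_val_one, Matrix.cons_val] at hg
    have h2 : g 2 = 0 := by
      by_contra h2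
      refine hno2 v hv (-(g 0) / g 2) (-(g 1) / g 2) ?_
      calc L (L v) = (g 2)⁻¹ • (g 2 • L (L v)) := by rw [smul_smul, inv_mul_cancel₀ h2, one_smul]
        _ = (g 2)⁻¹ • (-(g 0 • v) - g 1 • L v) := by
          rw [show g 2 • L (L v) = -(g 0 • v) - g 1 • L v by linear_combination (norm := module) hg]
        _ = _ := by simp only [smul_sub, smul_neg, smul_smul, div_eq_inv_mul, mul_neg, neg_smul]; abel
    rw [h2, zero_smul, add_zero] at hg
    have h1 : g 1 = 0 := by
      by_contra h1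
      refine hno1 v hv (-(g 0) / g 1) ?_
      calc L v = (g 1)⁻¹ • (g 1 • L v) := by rw [smul_smul, inv_mul_cancel₀ h1, one_smul]
        _ = (g 1)⁻¹ • (-(g 0 • v)) := by
          rw [show g 1 • L v = -(g 0 • v) by linear_combination (norm := module) hg]
        _ = _ := by simp only [smul_neg, smul_smul, div_eq_inv_mul, mul_neg, neg_smul]
    rw [h1, zero_smul, add_zero, smul_eq_zero] at hg
    intro i
    fin_cases i
    exacts [hg.resolve_right hv, h1, h2]
  let S : V6 → Submodule F V6 := fun v => Submodule.span F (Set.range (fam v))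
  have hmem : ∀ v i, fam v i ∈ S v := fun v i => Submodule.subset_span ⟨i, rfl⟩
  have hinv : ∀ v : V6, ∀ u ∈ S v, L u ∈ S v := by
    intro v u hu
    induction hu using Submodule.span_induction with
    | mem x hx =>
      obtain ⟨i, rfl⟩ := hx
      fin_cases i
      · simpa [fam] using hmem v 1
      · simpa [fam] using hmem v 2
      · simpa [fam, hL3] using Submodule.smul_mem _ c (hmem v 0)
    | zero => simp
    | add x y _ _ h1 h2 => rw [map_add]; exact add_mem h1 h2
    | smul a x _ h1 => rw [map_smul]; exact Submodule.smul_mem _ a h1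
  have hdim : ∀ v : V6, v ≠ 0 → Module.finrank F (S v) = 3 := fun v hv => by
    rw [finrank_span_eq_card (hli v hv), Fintype.card_fin]
  have hv₁ : (Pi.single 0 1 : V6) ≠ 0 := by simp
  obtain ⟨v₁, hv₁d⟩ : ∃ v₁ : V6, v₁ = Pi.single 0 1 := ⟨_, rfl⟩
  rw [← hv₁d] at hv₁
  obtain ⟨v₂, hv₂⟩ : ∃ v₂, v₂ ∉ S v₁ := by
    by_contra! hall
    have : S v₁ = ⊤ := eq_top_iff.2 fun x _ => hall x
    have h6 := hdim v₁ hv₁
    rw [this, finrank_top, Module.finrank_fintype_fun_eq_card, Fintype.card_fin] at h6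
    omega
  have hv₂0 : v₂ ≠ 0 := fun e => hv₂ (e ▸ zero_mem _)
  have hdisj : Disjoint (S v₁) (S v₂) := by
    rw [Submodule.disjoint_def]
    intro u h1 h2
    by_contra hu
    have hle : ∀ v, u ∈ S v → S u ≤ S v := fun v huv => Submodule.span_le.2 (by
      rintro _ ⟨i, rfl⟩
      fin_cases i
      exacts [huv, hinv v _ huv, hinv v _ (hinv v _ huv)])
    have e1 := Submodule.eq_of_le_of_finrank_le (hle v₁ h1) (by rw [hdim u hu, hdim v₁ hv₁])
    have e2 := Submodule.eq_of_le_of_finrank_le (hle v₂ h2) (by rw [hdim u hu, hdim v₂ hv₂0])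
    exact hv₂ (e1 ▸ e2.symm ▸ (show v₂ ∈ S v₂ from hmem v₂ 0))
  have hall6 : LinearIndependent F (Sum.elim (fam v₁) (fam v₂)) :=
    (hli v₁ hv₁).sum_type (hli v₂ hv₂0) hdisj
  let B : Module.Basis (Fin 3 ⊕ Fin 3) F V6 :=
    basisOfLinearIndependentOfCardEqFinrank hall6 (by simp)
  have hB : ∀ k, B k = Sum.elim (fam v₁) (fam v₂) k := fun k => by
    rw [coe_basisOfLinearIndependentOfCardEqFinrank]
  let C : Matrix (Fin 3) (Fin 3) F := !![0, 0, c; 1, 0, 0; 0, 1, 0]
  have hM : LinearMap.toMatrix B B L = Matrix.fromBlocks C 0 0 C := by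
    refine Matrix.ext fun i j => ?_
    rw [LinearMap.toMatrix_apply]
    have hcol : L (B j) = ∑ k, (Matrix.fromBlocks C 0 0 C) k j • B k := by
      simp only [Fintype.sum_sum_type, Fin.sum_univ_three, hB]
      rcases j with j | j <;> fin_cases j <;> simp [C, fam, hL3]
    rw [hcol, map_sum, Finsupp.finsetSum_apply]
    simp [Finsupp.single_apply]
  have hd := det_lin s
  rw [← hLdef, ← LinearMap.det_toMatrix B L, hM, Matrix.det_fromBlocks_zero₂₁, Matrix.det_fin_three] at hd
  simp [C] at hd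
  exact hc1 (by linear_combination (c * c) * 0 + cube_eq_one hF hc0 - c * hd)

/-- An element whose cube is one has an eigenvector in each non-zero invariant subspace. -/
theorem eigen_cube {s : SU6} (h : s ^ 3 = 1) {W : Submodule F V6} (hW : ∀ w ∈ W, act s w ∈ W) {w₀ : V6}
    (hw₀ : w₀ ∈ W) (h0 : w₀ ≠ 0) : ∃ w ∈ W, w ≠ 0 ∧ ∃ a : F, act s w = a • w := by
  obtain ⟨o, ho0, ho1, ho, -⟩ := exists_omega hF
  by_contra! hno
  -- apply the three factors of `x³ - 1` in turn
  have step : ∀ (a : F) (w : V6), w ∈ W → w ≠ 0 → act s w - a • w ∈ W ∧ act s w - a • w ≠ 0 :=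
    fun a w hw hw0 => ⟨sub_mem (hW w hw) (Submodule.smul_mem _ _ hw), sub_ne_zero.2 (hno w hw hw0 a)⟩
  obtain ⟨h1, h1'⟩ := step 1 w₀ hw₀ h0
  obtain ⟨h2, h2'⟩ := step o _ h1 h1'
  obtain ⟨h3, h3'⟩ := step (o * o) _ h2 h2'
  refine h3' ?_
  have e : act s (act s (act s w₀)) = w₀ := by
    rw [← act_mul, ← act_mul, ← pow_two, ← pow_succ, h, act_one]
  simp only [act_sub, act_smul, e, one_smul]
  have e1 : (1 + o + o * o) = 0 := by linear_combination ho
  have e2 : o * o * o = 1 := by
    have := cube_eq_one hF ho0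
    linear_combination this
  linear_combination (norm := module) (e1 • (o • act s w₀ - act s (act s w₀))) + (-e2) • w₀

omit hF [Fintype F] in
theorem card_dvd_of_free (A : Subgroup SU6) (Ω : Set V6) [Finite A] [Finite Ω]
    (hinv : ∀ s ∈ A, ∀ w ∈ Ω, act s w ∈ Ω) (hfree : ∀ s ∈ A, ∀ w ∈ Ω, act s w = w → s = 1) :
    Nat.card A ∣ Nat.card Ω := by
  letI : MulAction A Ω :=
    { smul := fun g w => ⟨act g.1 w.1, hinv g.1 g.2 w.1 w.2⟩
      one_smul := fun w => Subtype.ext (act_one w.1)
      mul_smul := fun g g' w => Subtype.ext (act_mul g.1 g'.1 w.1) }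
  have hst : ∀ w : Ω, MulAction.stabilizer A w = ⊥ := fun w => (Subgroup.eq_bot_iff_forall _).2
    fun g hg => Subtype.ext (hfree g.1 g.2 w.1 w.2 (congrArg Subtype.val (MulAction.mem_stabilizer_iff.1 hg)))
  refine ⟨Nat.card (Quotient (MulAction.orbitRel A Ω)), ?_⟩
  rw [mul_comm, Nat.card_congr (MulAction.selfEquivOrbitsQuotientProd hst), Nat.card_prod]

end CfsgLib.M22Sylow
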