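import Mathlib

/-!
# Counting with normalisers of subgroups of prime order
-/

set_option autoImplicit false

namespace CfsgLib.M22Sylow.Loc

open Subgroup
open scoped Pointwise

variable {G : Type*} [Group G] [Finite G]

omit [Finite G] in
theorem card_eq_orbit_mul (K : Subgroup G) (a : G) :
    Nat.card K = ((fun g => g * a * g⁻¹) '' (K : Set G)).ncard * Nat.card ↥(K ⊓ centralizer ({a} : Set G)) := by
  let i : K →* ConjAct G := ConjAct.toConjAct.toMonoidHom.comp K.subtype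
  letI : MulAction K G := MulAction.compHom G i
  have horb : MulAction.orbit K a = (fun g => g * a * g⁻¹) '' (K : Set G) := by
    ext x
    constructor
    · rintro ⟨g, rfl⟩; exact ⟨g, g.2, rfl⟩
    · rintro ⟨g, hg, rfl⟩; exact ⟨⟨g, hg⟩, rfl⟩
  have hst : MulAction.stabilizer K a = (K ⊓ centralizer ({a} : Set G)).subgroupOf K := by
    ext g
    rw [MulAction.mem_stabilizer_iff, mem_subgroupOf, mem_inf, mem_centralizer_singleton_iff]
    exact ⟨fun h => ⟨g.2, mul_inv_eq_iff_eq_mul.1 h⟩, fun h => mul_inv_eq_iff_eq_mul.2 h.2⟩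
  have h := MulAction.index_stabilizer (G := K) a
  rw [horb] at h
  rw [← h, hst, ← Nat.card_congr (subgroupOfEquivOfLe (inf_le_left : K ⊓ centralizer ({a} : Set G) ≤ K)).toEquiv,
    index_mul_card]

theorem card_le_mul (K : Subgroup G) (a : G) (T : Set G) (h : ∀ g ∈ K, g * a * g⁻¹ ∈ T) :
    Nat.card K ≤ T.ncard * Nat.card ↥(K ⊓ centralizer ({a} : Set G)) := by
  rw [card_eq_orbit_mul K a]
  exact Nat.mul_le_mul_right _ (Set.ncard_le_ncard (Set.image_subset_iff.2 h) (Set.toFinite _))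

omit [Finite G] in
theorem card_eq_mul (K : Subgroup G) (a : G) (T : Set G) (h : ∀ g ∈ K, g * a * g⁻¹ ∈ T)
    (h' : ∀ x ∈ T, ∃ g ∈ K, g * a * g⁻¹ = x) :
    Nat.card K = T.ncard * Nat.card ↥(K ⊓ centralizer ({a} : Set G)) := by
  rw [card_eq_orbit_mul K a, show (fun g => g * a * g⁻¹) '' (K : Set G) = T from
    Set.Subset.antisymm (Set.image_subset_iff.2 h) fun x hx => h' x hx]

theorem card_mul_le_sup {A B : Subgroup G} (h : A ⊓ B = ⊥) : Nat.card A * Nat.card B ≤ Nat.card ↥(A ⊔ B) := by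
  rw [← Nat.card_prod]
  refine Nat.card_le_card_of_injective
    (fun p : A × B => (⟨(p.1 : G) * p.2, mul_mem (mem_sup_left p.1.2) (mem_sup_right p.2.2)⟩ : ↥(A ⊔ B))) ?_
  exact fun p q e => mul_injective_of_disjoint (disjoint_iff.2 h) (congrArg Subtype.val e)

theorem card_sup_le {A B : Subgroup G} (h : B ≤ normalizer (A : Set G)) :
    Nat.card ↥(A ⊔ B) ≤ Nat.card A * Nat.card B := by
  rw [← Nat.card_prod]
  refine Nat.card_le_card_of_surjective
    (fun p : A × B => (⟨(p.1 : G) * p.2, mul_mem (mem_sup_left p.1.2) (mem_sup_right p.2.2)⟩ : ↥(A ⊔ B))) ?_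
  rintro ⟨x, hx⟩
  have : x ∈ (A : Set G) * (B : Set G) := by
    rw [← coe_mul_of_right_le_normalizer_left A B h]; exact hx
  obtain ⟨u, hu, v, hv, rfl⟩ := this
  exact ⟨(⟨u, hu⟩, ⟨v, hv⟩), rfl⟩

theorem sup_eq_of_card {A B N : Subgroup G} (hA : A ≤ N) (hB : B ≤ N) (h : A ⊓ B = ⊥)
    (hc : Nat.card N ≤ Nat.card A * Nat.card B) : A ⊔ B = N :=
  Subgroup.eq_of_le_of_card_ge (sup_le hA hB) (hc.trans (card_mul_le_sup h))

variable {p : ℕ}

theorem mem_normalizer_of_map {X : Subgroup G} {g : G}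
    (h : X.map (MulAut.conj g).toMonoidHom = X) : g ∈ normalizer (X : Set G) := by
  refine mem_normalizer_iff.2 fun x => ⟨fun hx => h ▸ ⟨x, hx, rfl⟩, fun hx => ?_⟩
  rw [← h] at hx
  obtain ⟨y, hy, e⟩ := hx
  rwa [show x = y from ((MulAut.conj g).injective e).symm]

/-- A subgroup of order `p` is a Sylow subgroup of a group whose order is not divisible by `p²`. -/
theorem exists_sylow (hp : p.Prime) {M X : Subgroup G} (hX : X ≤ M) (hc : Nat.card X = p)
    (h2 : ¬ p ^ 2 ∣ Nat.card M) :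
    ∃ P : Sylow p M, (P : Subgroup M) = X.subgroupOf M := by
  haveI := Fact.mk hp
  have hcard : Nat.card (X.subgroupOf M) = p ^ (Nat.card M).factorization p := by
    rw [Nat.card_congr (subgroupOfEquivOfLe hX).toEquiv, hc]
    have h1 : p ∣ Nat.card M := hc ▸ card_dvd_of_le hX
    have hne : Nat.card M ≠ 0 := Nat.card_pos.ne'
    have e1 := (hp.dvd_iff_one_le_factorization hne).1 h1
    have e2 : ¬ 2 ≤ (Nat.card M).factorization p := fun h => h2 ((hp.pow_dvd_iff_le_factorization hne).2 h)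
    rw [show (Nat.card M).factorization p = 1 by omega, pow_one]
  exact ⟨Sylow.ofCard (X.subgroupOf M) hcard, rfl⟩

/-- Two subgroups of order `p` of a group whose order is not divisible by `p²` are conjugate in it. -/
theorem conj_of_card (hp : p.Prime) {M X Y : Subgroup G} (hX : X ≤ M) (hY : Y ≤ M) (hcX : Nat.card X = p)
    (hcY : Nat.card Y = p) (h2 : ¬ p ^ 2 ∣ Nat.card M) :
    ∃ g ∈ M, X.map (MulAut.conj g).toMonoidHom = Y := by
  haveI := Fact.mk hp
  obtain ⟨P, hP⟩ := exists_sylow hp hX hcX h2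
  obtain ⟨Q, hQ⟩ := exists_sylow hp hY hcY h2
  obtain ⟨g, hg⟩ := MulAction.exists_smul_eq M P Q
  refine ⟨g, g.2, ?_⟩
  refine Subgroup.eq_of_le_of_card_ge ?_ ?_
  · rintro _ ⟨x, hx, rfl⟩
    have h1 : (⟨x, hX hx⟩ : M) ∈ (P : Subgroup M) := by rw [hP]; exact hx
    have h2 : g * ⟨x, hX hx⟩ * g⁻¹ ∈ (Q : Subgroup M) := by
      rw [← hg, Sylow.coe_subgroup_smul, Subgroup.mem_pointwise_smul_iff_inv_smul_mem]
      simpa [MulAut.smul_def, mul_assoc] using h1
    rw [hQ] at h2
    exact h2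
  · rw [Subgroup.card_map_of_injective (MulAut.conj (g : G)).injective, hcX, hcY]

/-- Sylow's congruence for a subgroup of order `p`. -/
theorem sylow_count (hp : p.Prime) {M X : Subgroup G} (hX : X ≤ M) (hc : Nat.card X = p)
    (h2 : ¬ p ^ 2 ∣ Nat.card M) :
    ∃ m, Nat.card M = m * Nat.card ↥(M ⊓ normalizer (X : Set G)) ∧ m ≡ 1 [MOD p] := by
  haveI := Fact.mk hp
  obtain ⟨P, hP⟩ := exists_sylow hp hX hc h2
  refine ⟨Nat.card (Sylow p M), ?_, card_sylow_modEq_one p M⟩
  rw [P.card_eq_index_normalizer]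
  have hN : normalizer (P : Set M) = (M ⊓ normalizer (X : Set G)).subgroupOf M := by
    ext g
    rw [show (P : Set M) = ((P : Subgroup M) : Set M) from rfl, hP]
    simp only [mem_normalizer_iff, mem_subgroupOf, mem_inf, Subgroup.coe_mul, Subgroup.coe_inv]
    constructor
    · intro h
      refine ⟨g.2, fun x => ⟨fun hx => (h ⟨x, hX hx⟩).1 hx, fun hx => ?_⟩⟩
      have hxM : x ∈ M := by
        have := mul_mem (mul_mem (inv_mem g.2) (hX hx)) g.2
        simpa [mul_assoc] using this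
      exact (h ⟨x, hxM⟩).2 hx
    · rintro ⟨-, h⟩ x
      exact h x
  rw [hN, ← Nat.card_congr (subgroupOfEquivOfLe (inf_le_left : M ⊓ normalizer (X : Set G) ≤ M)).toEquiv,
    index_mul_card]

/-- The normaliser modulo the centraliser of a subgroup of order `p`. -/
theorem normalizer_index (hp : p.Prime) (M : Subgroup G) {X : Subgroup G} (hc : Nat.card X = p) :
    ∃ k, Nat.card ↥(M ⊓ normalizer (X : Set G)) = k * Nat.card ↥(M ⊓ centralizer (X : Set G)) ∧ k ∣ p - 1 := by
  haveI := Fact.mk hp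
  haveI : IsCyclic X := isCyclic_of_prime_card hc
  let i : ↥(M ⊓ normalizer (X : Set G)) →* normalizer (X : Set G) := Subgroup.inclusion inf_le_right
  let f := X.normalizerMonoidHom.comp i
  have hker : f.ker = (M ⊓ centralizer (X : Set G)).subgroupOf (M ⊓ normalizer (X : Set G)) := by
    ext g
    have h0 : i g ∈ X.normalizerMonoidHom.ker ↔ (g : G) ∈ centralizer (X : Set G) := by
      rw [normalizerMonoidHom_ker]; exact Iff.rfl
    rw [mem_subgroupOf, mem_inf]
    exact ⟨fun h => ⟨g.2.1, h0.1 h⟩, fun h => h0.2 h.2⟩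
  refine ⟨Nat.card f.range, ?_, ?_⟩
  · rw [Subgroup.card_eq_card_quotient_mul_card_subgroup f.ker,
      Nat.card_congr (QuotientGroup.quotientKerEquivRange f).toEquiv, hker]
    congr 1
    exact Nat.card_congr (subgroupOfEquivOfLe (inf_le_inf_left M (centralizer_le_normalizer (X : Set G)))).toEquiv
  · have := Subgroup.card_subgroup_dvd_card f.range
    rwa [IsCyclic.card_mulAut, hc, Nat.totient_prime hp] at this

/-- A conjugation-invariant set and the members fixed by an element of prime order. -/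
theorem fix_modEq (hp : p.Prime) {y : G} (hy : y ^ p = 1) (T : Set G) (hT : ∀ e ∈ T, y * e * y⁻¹ ∈ T) :
    T.ncard ≡ {e | e ∈ T ∧ Commute y e}.ncard [MOD p] := by
  haveI := Fact.mk hp
  have hpow : ∀ g ∈ zpowers y, ∀ e ∈ T, g * e * g⁻¹ ∈ T := fun g hg e he => by
    obtain ⟨k, rfl⟩ := mem_powers_iff_mem_zpowers.2 hg
    clear hg
    simp only
    induction k with
    | zero => simpa using he
    | succ k ih => simpa [pow_succ', mul_assoc] using hT _ ih
  letI : MulAction ↥(zpowers y) ↥T :=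
    { smul := fun g e => ⟨g.1 * e.1 * g.1⁻¹, hpow g.1 g.2 e.1 e.2⟩
      one_smul := fun e => Subtype.ext (show (1 : G) * e.1 * (1 : G)⁻¹ = e.1 by group)
      mul_smul := fun g g' e => Subtype.ext (show (g.1 * g'.1) * e.1 * (g.1 * g'.1)⁻¹ =
        g.1 * (g'.1 * e.1 * g'.1⁻¹) * g.1⁻¹ by group) }
  have hPG : IsPGroup p ↥(zpowers y) := by
    rintro ⟨g, hg⟩
    obtain ⟨k, rfl⟩ := hg
    refine ⟨1, Subtype.ext ?_⟩
    simp only [pow_one, SubmonoidClass.coe_pow, coe_one]
    rw [← zpow_natCast, ← zpow_mul, mul_comm, zpow_mul, zpow_natCast, hy, one_zpow]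
  rw [← Nat.card_coe_set_eq, ← Nat.card_coe_set_eq]
  refine (hPG.card_modEq_card_fixedPoints ↥T).trans (congrArg (· % p) (Nat.card_congr ?_))
  refine
    { toFun := fun e => ⟨e.1.1, e.1.2, mul_inv_eq_iff_eq_mul.1 (congrArg Subtype.val (e.2 ⟨y, mem_zpowers y⟩))⟩
      invFun := fun e => ⟨⟨e.1, e.2.1⟩, fun g => Subtype.ext ?_⟩
      left_inv := fun _ => rfl
      right_inv := fun _ => rfl }
  obtain ⟨g, hg⟩ := g
  obtain ⟨k, rfl⟩ := hg
  show y ^ k * e.1 * (y ^ k)⁻¹ = e.1
  rw [(Commute.zpow_left e.2.2 k).eq, mul_inv_cancel_right]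

omit [Finite G] in
theorem mem_centralizer_zpowers {y e : G} :
    e ∈ centralizer ((zpowers y : Subgroup G) : Set G) ↔ Commute y e := by
  rw [mem_centralizer_iff]
  refine ⟨fun h => h y (mem_zpowers y), fun h z hz => ?_⟩
  obtain ⟨k, rfl⟩ := hz
  exact (h.zpow_left k).eq

/-- A generator of a group of prime order. -/
theorem exists_gen (hp : p.Prime) {X : Subgroup G} (hc : Nat.card X = p) :
    ∃ y, X = zpowers y ∧ y ^ p = 1 ∧ y ≠ 1 := by
  haveI := Fact.mk hp
  haveI : Nontrivial X := Finite.one_lt_card_iff_nontrivial.1 (hc.symm ▸ hp.one_lt)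
  obtain ⟨⟨y, hy⟩, hy1⟩ := exists_ne (1 : X)
  have hy0 : y ≠ 1 := fun e => hy1 (Subtype.ext e)
  have hpow : y ^ p = 1 := hc ▸ congrArg Subtype.val (pow_card_eq_one' (x := (⟨y, hy⟩ : X)))
  refine ⟨y, (Subgroup.eq_of_le_of_card_ge (zpowers_le.2 hy) ?_).symm, hpow, hy0⟩
  rw [Nat.card_zpowers, orderOf_eq_prime hpow hy0, hc]

end CfsgLib.M22Sylow.Loc
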