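import Cfsg.Agent.Lib.ThreeTransp.M22Sylow.Transfer
import Cfsg.Agent.Lib.ThreeTransp.Width1

/-!
# Groups of type `M(22)`: subgroups of order seven
-/

set_option autoImplicit false

namespace CfsgLib.M22Sylow

open CfsgLib.ThreeTransp CfsgLib.M22
open CfsgLib.PSUAut CfsgLib.U6
open CfsgLib.UnitarySpec (psuMk)

section three

variable {G : Type*} [Group G] [Finite G]

omit [Finite G] in
/-- The group of three involutions braiding in pairs. -/
theorem closure_three_cases {a b : G} (ha : a * a = 1) (hb : b * b = 1) (hab : a * b * a = b * a * b) {g : G}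
    (hg : g ∈ Subgroup.closure ({a, b, a * b * a} : Set G)) :
    g = 1 ∨ g = a ∨ g = b ∨ g = a * b ∨ g = b * a ∨ g = a * b * a := by
  have hle : Subgroup.closure ({a, b, a * b * a} : Set G) ≤ Subgroup.closure {a, b} := by
    have h1 : a ∈ Subgroup.closure ({a, b} : Set G) := Subgroup.subset_closure (by simp)
    have h2 : b ∈ Subgroup.closure ({a, b} : Set G) := Subgroup.subset_closure (by simp)
    rw [Subgroup.closure_le]
    rintro x (rfl | rfl | rfl)
    exacts [h1, h2, mul_mem (mul_mem h1 h2) h1]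
  have ra : ∀ g, (g = 1 ∨ g = a ∨ g = b ∨ g = a * b ∨ g = b * a ∨ g = a * b * a) →
      (g * a = 1 ∨ g * a = a ∨ g * a = b ∨ g * a = a * b ∨ g * a = b * a ∨ g * a = a * b * a) := by
    rintro g (rfl | rfl | rfl | rfl | rfl | rfl)
    · simp
    · simp [ha]
    · simp
    · simp
    · right; right; left; rw [mul_assoc, ha, mul_one]
    · right; right; right; left; rw [mul_assoc, ha, mul_one]
  have rb : ∀ g, (g = 1 ∨ g = a ∨ g = b ∨ g = a * b ∨ g = b * a ∨ g = a * b * a) →
      (g * b = 1 ∨ g * b = a ∨ g * b = b ∨ g * b = a * b ∨ g * b = b * a ∨ g * b = a * b * a) := by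
    rintro g (rfl | rfl | rfl | rfl | rfl | rfl)
    · simp
    · simp
    · simp [hb]
    · right; left; rw [mul_assoc, hb, mul_one]
    · right; right; right; right; right; exact hab.symm
    · right; right; right; right; left; rw [hab, mul_assoc, hb, mul_one]
  have hg' := hle hg
  clear hg
  induction hg' using Subgroup.closure_induction_right with
  | one => exact Or.inl rfl
  | mul_right x _ u hu ih =>
    rcases hu with rfl | rfl
    · exact ra x ih
    · exact rb x ih
  | mul_inv_cancel x _ u hu ih =>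
    rcases hu with rfl | rfl
    · rw [inv_eq_of_mul_eq_one_right ha]; exact ra x ih
    · rw [inv_eq_of_mul_eq_one_right hb]; exact rb x ih

/-- A non-commuting triple of 3-transpositions generates the symmetric group of degree three. -/
theorem closure_three {a b : G} {T : Set G} (ha : a * a = 1) (hb : b * b = 1) (hab : a * b * a = b * a * b)
    (hnc : ¬ Commute a b) (hT : T = {a, b, a * b * a}) (h3 : T.ncard = 3)
    (hinv : ∀ g ∈ Subgroup.closure T, ∀ x ∈ T, g * x * g⁻¹ ∈ T) :
    Nat.card ↥(Subgroup.closure T) = 6 ∧ (∀ z ∈ Subgroup.closure T, Commute z a → Commute z b → z = 1) ∧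
      Nonempty (↥(Subgroup.closure T) ≃* Equiv.Perm (Fin 3)) := by
  have hcases : ∀ g ∈ Subgroup.closure T, g = 1 ∨ g = a ∨ g = b ∨ g = a * b ∨ g = b * a ∨ g = a * b * a :=
    fun g hg => closure_three_cases ha hb hab (hT ▸ hg)
  have haT : a ∈ T := by rw [hT]; simp
  have hbT : b ∈ T := by rw [hT]; simp
  have hz : ∀ z ∈ Subgroup.closure T, Commute z a → Commute z b → z = 1 := by
    intro z hz h1 h2
    rcases hcases z hz with rfl | rfl | rfl | rfl | rfl | rfl
    · rfl
    · exact absurd h2 hnc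
    · exact absurd h1.symm hnc
    · have : a * b * a = a * (a * b) := h1.eq
      rw [← mul_assoc a a, ha, one_mul] at this
      refine absurd ?_ hnc
      calc a * b = a * b * a * a := by rw [mul_assoc (a * b) a, ha, mul_one]
        _ = b * a := by rw [this]
    · have : b * a * a = a * (b * a) := h1.eq
      rw [mul_assoc, ha, mul_one, ← mul_assoc] at this
      refine absurd ?_ hnc
      calc a * b = a * (a * b * a) := by rw [← this]
        _ = b * a := by rw [← mul_assoc, ← mul_assoc, ha, one_mul]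
    · have : a * b * a * a = a * (a * b * a) := h1.eq
      rw [mul_assoc (a * b) a, ha, mul_one, ← mul_assoc, ← mul_assoc, ha, one_mul] at this
      exact absurd this hnc
  have hle6 : Nat.card ↥(Subgroup.closure T) ≤ 6 := by
    rw [← SetLike.coe_sort_coe, Nat.card_coe_set_eq]
    refine le_trans (Set.ncard_le_ncard (t := {1, a, b, a * b, b * a, a * b * a}) ?_ (Set.toFinite _)) ?_
    · intro g hg
      simpa using hcases g hg
    · repeat' refine (Set.ncard_insert_le _ _).trans (Nat.succ_le_succ ?_)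
      rw [Set.ncard_singleton]
  let φ : ↥(Subgroup.closure T) →* Equiv.Perm T :=
    { toFun := fun g =>
        { toFun := fun x => ⟨g.1 * x.1 * g.1⁻¹, hinv g.1 g.2 x.1 x.2⟩
          invFun := fun x => ⟨g.1⁻¹ * x.1 * g.1, by simpa using hinv g.1⁻¹ (inv_mem g.2) x.1 x.2⟩
          left_inv := fun x => Subtype.ext (by simp [mul_assoc])
          right_inv := fun x => Subtype.ext (by simp [mul_assoc]) }
      map_one' := Equiv.ext fun x => Subtype.ext (by simp)
      map_mul' := fun g g' => Equiv.ext fun x => Subtype.ext (by simp [mul_assoc]) }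
  have hinj : Function.Injective φ := by
    rw [← MonoidHom.ker_eq_bot_iff, Subgroup.eq_bot_iff_forall]
    intro g hg
    have h : ∀ x : T, g.1 * x.1 * g.1⁻¹ = x.1 := fun x =>
      congrArg Subtype.val (Equiv.ext_iff.1 hg x)
    exact Subtype.ext (hz g.1 g.2 (mul_inv_eq_iff_eq_mul.1 (h ⟨a, haT⟩)) (mul_inv_eq_iff_eq_mul.1 (h ⟨b, hbT⟩)))
  have hP : Nat.card (Equiv.Perm T) = 6 := by
    rw [Nat.card_perm, Nat.card_coe_set_eq, h3]; rfl
  have h6 : 6 ≤ Nat.card ↥(Subgroup.closure T) := by
    have h2 : 2 ∣ Nat.card ↥(Subgroup.closure T) := by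
      have := Subgroup.card_dvd_of_le (Subgroup.zpowers_le.2 (Subgroup.subset_closure haT) :
        Subgroup.zpowers a ≤ Subgroup.closure T)
      rwa [Nat.card_zpowers, orderOf_eq_prime (by rw [pow_two]; exact ha) fun e : a = 1 => hnc (e ▸ Commute.one_left b)]
        at this
    have h3' : 3 ∣ Nat.card ↥(Subgroup.closure T) := by
      have hab3 : orderOf (a * b) = 3 := by
        haveI := Fact.mk Nat.prime_three
        refine orderOf_eq_prime (pow_three_eq_one ha hb hab) fun e => hnc ?_
        have : a = b := by rw [← mul_one a, ← hb, ← mul_assoc, e, one_mul]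
        rw [this]
      have := Subgroup.card_dvd_of_le (Subgroup.zpowers_le.2
        (mul_mem (Subgroup.subset_closure haT) (Subgroup.subset_closure hbT)) :
          Subgroup.zpowers (a * b) ≤ Subgroup.closure T)
      rwa [Nat.card_zpowers, hab3] at this
    exact Nat.le_of_dvd Nat.card_pos ((show Nat.Coprime 2 3 by norm_num).mul_dvd_of_dvd_of_dvd h2 h3')
  have hbij : Function.Bijective φ := (Nat.bijective_iff_injective_and_card _).2 ⟨hinj, by rw [hP]; omega⟩
  obtain ⟨e⟩ : Nonempty (T ≃ Fin 3) := ⟨(Finite.equivFinOfCardEq (by rw [Nat.card_coe_set_eq, h3]))⟩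
  exact ⟨le_antisymm hle6 h6, hz, ⟨(MulEquiv.ofBijective φ hbij).trans e.permCongrHom⟩⟩

end three

variable {G : Type*} [Group G] [Finite G] {D : Set G} (S : Setup D) {F : Type} [Field F] [Fintype F]
  (hF : Fintype.card F = 2 ^ 2) (hM : ∀ a ∈ D, Nonempty (Model D a F))
include S hF hM

theorem seven_link {a y : G} (ha : a ∈ D) (hy : y ^ 7 = 1) (hy1 : y ≠ 1) (hay : Commute a y)
    {e : G} (he : e ∈ link D a) : ¬ Commute y e := by
  intro hc
  obtain ⟨A⟩ := hM a ha
  obtain ⟨h, t, ht, htp, ht1⟩ := exists_model_lift S hF hM (by norm_num : (7 : ℕ).Prime) (by norm_num)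
    (by norm_num) ha A hy hy1 hay
  obtain ⟨hK, -, -⟩ := seven_main hF htp ht1
  obtain ⟨v, hv⟩ := A.exists_pt_of_link S hF ha he
  have := (commute_iff_fix S hF (by norm_num : (7 : ℕ).Prime) (by norm_num) ha A ht htp he hv).1 hc
  rw [hK, Submodule.mem_bot] at this
  exact hv.1.1 this

theorem seven_pair {y d e : G} (hy : y ^ 7 = 1) (hy1 : y ≠ 1) (hd : d ∈ fixSet D y) (he : e ∈ fixSet D y)
    (hne : d ≠ e) : ¬ Commute d e :=
  fun hc => seven_link S hF hM hd.1 hy hy1 hd.2.symm ⟨he.1, hne.symm, hc⟩ he.2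

theorem seven_cent {d y : G} (hd : d ∈ D) (hy : y ^ 7 = 1) (hy1 : y ≠ 1) (hdy : Commute d y) :
    Nat.card ↥(Subgroup.centralizer ({d} : Set G) ⊓ Subgroup.centralizer ({y} : Set G)) = 14 := by
  obtain ⟨A⟩ := hM d hd
  have hpr : (7 : ℕ).Prime := by norm_num
  obtain ⟨h, t, ht, htp, ht1⟩ := exists_model_lift S hF hM hpr (by norm_num) (by norm_num) hd A hy hy1 hdy
  obtain ⟨hK, hdvd, hno⟩ := seven_main hF htp ht1
  set C := Subgroup.centralizer ({d} : Set G) ⊓ Subgroup.centralizer ({y} : Set G) with hC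
  have hmem : ∀ q ∈ imgSub A C, ∃ s : Cfsg.SU 6 F 2, psuMk s = q ∧ Commute s t := fun q hq => by
    obtain ⟨g, hg, s, -, -, hs, hst⟩ := mem_imgSub hF hpr (by norm_num) A ht htp
      (fun g hg => (Subgroup.mem_centralizer_singleton_iff.1 (Subgroup.mem_inf.1 hg).2).symm) hq
    exact ⟨s, hs, hst⟩
  have h2 : Nat.card (imgSub A C) ∣ 63 := by
    refine (card_dvd_pointStab hF fun q hq => ?_).trans hdvd
    obtain ⟨s, hs, hst⟩ := hmem q hq
    exact ⟨s, ⟨hst, fun w hw => by rw [hK, Submodule.mem_bot] at hw; rw [hw, act_zero]⟩, hs⟩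
  have h3 : ¬ 3 ∣ Nat.card (imgSub A C) := by
    intro h
    haveI := Fact.mk Nat.prime_three
    obtain ⟨⟨q, hq⟩, hq3⟩ := exists_prime_orderOf_dvd_card' (G := imgSub A C) 3 h
    rw [Subgroup.orderOf_mk] at hq3
    obtain ⟨s, rfl, hst⟩ := hmem q hq
    have := hno s hst (hq3 ▸ pow_orderOf_eq_one _)
    rw [this, orderOf_one] at hq3
    norm_num at hq3
  have h7 : 7 ∣ Nat.card C := by
    have hy' := Subgroup.card_dvd_of_le (show Subgroup.zpowers y ≤ C from Subgroup.zpowers_le.2
      (Subgroup.mem_inf.2 ⟨Subgroup.mem_centralizer_singleton_iff.2 hdy.symm.eq,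
        Subgroup.mem_centralizer_singleton_iff.2 rfl⟩))
    haveI := Fact.mk hpr
    rwa [Nat.card_zpowers, orderOf_eq_prime hy hy1] at hy'
  have h := card_centralizer_two S hF hM hd A hdy
  rw [← hC] at h
  have h7' : Nat.card (imgSub A C) ∣ 7 :=
    (((Nat.prime_three.coprime_iff_not_dvd.2 h3).symm.pow_right 2)).dvd_of_dvd_mul_left
      (show Nat.card (imgSub A C) ∣ 3 ^ 2 * 7 by norm_num; exact h2)
  rw [h] at h7 ⊢
  rw [Nat.dvd_antisymm h7' ((show Nat.Coprime 7 2 by norm_num).dvd_of_dvd_mul_left h7)]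

theorem seven_fixSet {y : G} (hy : y ^ 7 = 1) (hy1 : y ≠ 1) :
    ∃ a b, a ∈ fixSet D y ∧ b ∈ fixSet D y ∧ a ≠ b ∧ fixSet D y = {a, b, a * b * a} ∧
      (fixSet D y).ncard = 3 := by
  have hpr : (7 : ℕ).Prime := by norm_num
  have hmod := fixSet_modEq S hF hM hpr hy
  obtain ⟨d, hd⟩ : (fixSet D y).Nonempty := by
    rw [Set.nonempty_iff_ne_empty]
    intro e
    rw [e, Set.ncard_empty] at hmod
    norm_num [Nat.ModEq] at hmod
  have hclosed : ∀ u ∈ fixSet D y, ∀ v ∈ fixSet D y, u * v * u ∈ fixSet D y := fun u hu v hv => by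
    have := fixSet_conj S hu.2 hv
    rwa [S.tt.inv_eq hu.1] at this
  set T := fixSet D y with hT
  set H := Subgroup.closure T with hH
  let T' : Set ↥H := {x | (x : G) ∈ T}
  have hW : IsW1 T' := by
    have hw : IsW1 T := S.tt.mono_w1 (fun u hu => hu.1) (fun u hu v hv => seven_pair S hF hM hy hy1 hu hv) hclosed
    exact ⟨fun u hu => Subtype.ext (hw.sq _ hu), fun u hu v hv => Subtype.ext (hw.braid _ hu _ hv),
      fun u hu v hv => hw.closed _ hu _ hv⟩
  have hgen : Subgroup.closure T' = ⊤ := Subgroup.closure_closure_coe_preimage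
  set O := (Cfsg.pCore 3 ↥H).map H.subtype with hO
  have hHy : ∀ g ∈ H, Commute y g := fun g hg => by
    induction hg using Subgroup.closure_induction with
    | mem u hu => exact hu.2
    | one => exact Commute.one_right y
    | mul u v _ _ h1 h2 => exact h1.mul_right h2
    | inv u _ h1 => exact h1.inv_right
  have horb : Nat.card O = T.ncard * Nat.card ↥(O ⊓ Subgroup.centralizer ({d} : Set G)) := by
    refine Loc.card_eq_mul O d T ?_ ?_
    · rintro _ ⟨g, -, rfl⟩
      exact fixSet_conj S (hHy _ g.2) hd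
    · intro e he
      by_cases hed : d = e
      · exact ⟨1, one_mem _, by rw [one_mul, inv_one, mul_one]; exact hed⟩
      refine ⟨d * e, ⟨⟨d, Subgroup.subset_closure hd⟩ * ⟨e, Subgroup.subset_closure he⟩,
        hW.mul_mem_pCore hgen (show d ∈ T from hd) (show e ∈ T from he), rfl⟩, ?_⟩
      rw [mul_inv_rev, S.tt.inv_eq hd.1, S.tt.inv_eq he.1]
      calc d * e * d * (e * d) = (d * e * d) * e * d := by group
        _ = e * d * (e * e) * d := by rw [S.tt.braid hd.1 he.1 (seven_pair S hF hM hy hy1 hd he hed)]; group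
        _ = e := by rw [S.sqd he.1, mul_one, mul_assoc, S.sqd hd.1, mul_one]
  obtain ⟨j, hj⟩ : ∃ j, Nat.card O = 3 ^ j := by
    haveI := Fact.mk Nat.prime_three
    exact IsPGroup.iff_card.1 ((CfsgLib.Cores.isPGroup_pCore (G := ↥H) 3).map H.subtype)
  obtain ⟨k, -, hk⟩ := (Nat.dvd_prime_pow Nat.prime_three).1 (show T.ncard ∣ 3 ^ j by rw [← hj, horb]; exact dvd_mul_right _ _)
  -- a bound from the normaliser in the centraliser of `d`
  have hbound : T.ncard ≤ 85 := by
    rcases (T \ {d}).eq_empty_or_nonempty with h | ⟨e, he⟩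
    · have := Set.ncard_diff_singleton_add_one hd (Set.toFinite T)
      rw [h, Set.ncard_empty] at this
      omega
    set X := Subgroup.zpowers y with hX
    have hX7 : Nat.card X = 7 := by
      haveI := Fact.mk hpr
      rw [hX, Nat.card_zpowers, orderOf_eq_prime hy hy1]
    set K := Subgroup.centralizer ({d} : Set G) ⊓ Subgroup.normalizer (X : Set G) with hK
    have hKorb : Nat.card K = (T \ {d}).ncard * Nat.card ↥(K ⊓ Subgroup.centralizer ({e} : Set G)) := by
      refine Loc.card_eq_mul K e _ ?_ ?_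
      · intro g hg
        refine ⟨fixSet_normalizer S (Subgroup.mem_inf.1 hg).2 he.1, fun h => he.2 ?_⟩
        rw [Set.mem_singleton_iff] at h ⊢
        have h' : g * d * g⁻¹ = d :=
          mul_inv_eq_iff_eq_mul.2 (Subgroup.mem_centralizer_singleton_iff.1 (Subgroup.mem_inf.1 hg).1)
        exact mul_left_cancel (mul_right_cancel (h.trans h'.symm))
      · intro e' he'
        obtain ⟨h, hh, hhe⟩ := trans_nonlink S hF hM hd.1 he.1.1 he'.1.1
          (seven_pair S hF hM hy hy1 hd he.1 (Ne.symm he.2)) (seven_pair S hF hM hy hy1 hd he'.1 (Ne.symm he'.2))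
        have hhd : Commute d h := commute_link_closure hh
        set M := Subgroup.centralizer ({d} : Set G) ⊓ Subgroup.centralizer ({e'} : Set G) with hMdef
        have hXM : X ≤ M := Subgroup.zpowers_le.2 (Subgroup.mem_inf.2
          ⟨Subgroup.mem_centralizer_singleton_iff.2 hd.2.eq, Subgroup.mem_centralizer_singleton_iff.2 he'.1.2.eq⟩)
        have hXM' : X.map (MulAut.conj h).toMonoidHom ≤ M := by
          rw [hX, MonoidHom.map_zpowers, Subgroup.zpowers_le]
          refine Subgroup.mem_inf.2 ⟨Subgroup.mem_centralizer_singleton_iff.2 ?_,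
            Subgroup.mem_centralizer_singleton_iff.2 ?_⟩
          · show h * y * h⁻¹ * d = d * (h * y * h⁻¹)
            exact (((hhd.mul_right hd.2.symm).mul_right hhd.inv_right)).symm.eq
          · show h * y * h⁻¹ * e' = e' * (h * y * h⁻¹)
            rw [← hhe]
            calc h * y * h⁻¹ * (h * e * h⁻¹) = h * (y * e) * h⁻¹ := by group
              _ = h * (e * y) * h⁻¹ := by rw [he.1.2.eq]
              _ = h * e * h⁻¹ * (h * y * h⁻¹) := by group
        obtain ⟨g, hg, hgX⟩ := Loc.conj_of_card hpr hXM' hXM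
          (by rw [Subgroup.card_map_of_injective (MulAut.conj h).injective, hX7]) hX7 (fun h49 => by
            have := h49.trans (Subgroup.card_subgroup_dvd_card M)
            rw [card_eq S hF hM] at this
            norm_num at this)
        rw [Subgroup.map_map] at hgX
        have hgd : Commute d g := (Subgroup.mem_centralizer_singleton_iff.1 (Subgroup.mem_inf.1 hg).1).symm
        have hge : Commute e' g := (Subgroup.mem_centralizer_singleton_iff.1 (Subgroup.mem_inf.1 hg).2).symm
        refine ⟨g * h, Subgroup.mem_inf.2 ⟨Subgroup.mem_centralizer_singleton_iff.2 (hgd.mul_right hhd).symm.eq,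
          Loc.mem_normalizer_of_map ?_⟩, ?_⟩
        · rw [map_mul]
          exact hgX
        · calc g * h * e * (g * h)⁻¹ = g * (h * e * h⁻¹) * g⁻¹ := by group
            _ = e' := by rw [hhe, ← hge.eq, mul_inv_cancel_right]
    obtain ⟨i, hi, hi6⟩ := Loc.normalizer_index hpr (Subgroup.centralizer ({d} : Set G)) hX7
    rw [← hK, hX, centralizer_zpowers, seven_cent S hF hM hd.1 hy hy1 hd.2.symm] at hi
    have hi' := Nat.le_of_dvd (by norm_num) hi6
    have hle : (T \ {d}).ncard ≤ Nat.card K := by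
      rw [hKorb]; exact Nat.le_mul_of_pos_right _ Nat.card_pos
    have := Set.ncard_diff_singleton_add_one hd (Set.toFinite T)
    omega
  have h3 : T.ncard = 3 := by
    rw [hk] at hmod hbound ⊢
    have hk4 : k ≤ 4 := by
      by_contra hk4
      have := Nat.pow_le_pow_right (show 0 < 3 by norm_num) (show 5 ≤ k by omega)
      omega
    interval_cases k <;> first
      | rfl
      | (norm_num [Nat.ModEq] at hmod)
      | omega
  obtain ⟨b, hb⟩ : ∃ b, b ∈ T \ {d} := by
    apply Set.nonempty_of_ncard_ne_zero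
    rw [Set.ncard_diff_singleton_of_mem hd, h3]; norm_num
  have hne : d ≠ b := Ne.symm hb.2
  have hnc := seven_pair S hF hM hy hy1 hd hb.1 hne
  refine ⟨d, b, hd, hb.1, hne, (Set.eq_of_subset_of_ncard_le ?_ ?_ (Set.toFinite _)).symm, h3⟩
  · rintro x (rfl | rfl | rfl)
    exacts [hd, hb.1, hclosed d hd b hb.1]
  · rw [h3, Set.ncard_eq_three.2 ⟨d, b, d * b * d, hne, fun h => ?_, fun h => ?_, rfl⟩]
    · exact hne (by
        calc d = d * (d * b * d) * d := by rw [← h, S.sqd hd.1, one_mul]
          _ = b := by simp [mul_assoc, cancel₂ (S.sqd hd.1), S.sqd hd.1])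
    · exact hnc (show d * b = b * d by
        calc d * b = d * (d * b * d) := by rw [← h]
          _ = b * d := by rw [mul_assoc, cancel₂ (S.sqd hd.1)])

/-- The normaliser of a subgroup of order seven. -/
theorem seven_normalizer {X : Subgroup G} (hX : Nat.card X = 7) :
    ∃ F' : Subgroup G, Nat.card ↥F' = 42 ∧ X ≤ F' ∧ F' ⊓ Subgroup.centralizer ((X : Subgroup G) : Set G) = X ∧
      F' ⊓ Subgroup.closure (D ∩ (Subgroup.centralizer ((X : Subgroup G) : Set G) : Set G)) = ⊥ ∧
      (∀ x ∈ F', ∀ y ∈ Subgroup.closure (D ∩ (Subgroup.centralizer ((X : Subgroup G) : Set G) : Set G)),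
        x * y = y * x) ∧
      F' ⊔ Subgroup.closure (D ∩ (Subgroup.centralizer ((X : Subgroup G) : Set G) : Set G)) =
        Subgroup.normalizer ((X : Subgroup G) : Set G) ∧
      Nonempty (↥(Subgroup.closure (D ∩ (Subgroup.centralizer ((X : Subgroup G) : Set G) : Set G))) ≃*
        Equiv.Perm (Fin 3)) := by
  have hpr : (7 : ℕ).Prime := by norm_num
  obtain ⟨y, rfl, hy, hy1⟩ := Loc.exists_gen hpr hX
  rw [inter_centralizer]
  obtain ⟨a, b, ha, hb, hne, hT, h3⟩ := seven_fixSet S hF hM hy hy1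
  have hnc := seven_pair S hF hM hy hy1 ha hb hne
  set X := Subgroup.zpowers y with hXdef
  set T := fixSet D y with hTdef
  set H := Subgroup.closure T with hH
  set N := Subgroup.normalizer (X : Set G) with hN
  set C := Subgroup.centralizer (X : Set G) with hC
  have hCN : C ≤ N := Subgroup.centralizer_le_normalizer _
  have hHC : H ≤ C := (Subgroup.closure_le C).2 fun u hu => Loc.mem_centralizer_zpowers.2 hu.2
  obtain ⟨hH6, hz, hiso⟩ := closure_three (S.sqd ha.1) (S.sqd hb.1) (S.tt.braid ha.1 hb.1 hnc) hnc hT h3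
    fun g hg x hx => fixSet_normalizer S (hCN (hHC hg)) hx
  set F' := N ⊓ Subgroup.centralizer (T : Set G) with hF'
  have hTF : ∀ g, Commute g a → Commute g b → g ∈ Subgroup.centralizer (T : Set G) := fun g h1 h2 => by
    rw [Subgroup.mem_centralizer_iff, hT]
    rintro x (rfl | rfl | rfl)
    exacts [h1.symm.eq, h2.symm.eq, ((h1.mul_right h2).mul_right h1).symm.eq]
  have hFH : ∀ x ∈ F', ∀ z ∈ H, x * z = z * x := fun x hx z hz => by
    have h := (Subgroup.mem_inf.1 hx).2
    rw [← Subgroup.centralizer_closure] at h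
    exact (Subgroup.mem_centralizer_iff.1 h z hz).symm
  have hbot : F' ⊓ H = ⊥ := (Subgroup.eq_bot_iff_forall _).2 fun z hzz =>
    hz z (Subgroup.mem_inf.1 hzz).2
      (hFH z (Subgroup.mem_inf.1 hzz).1 a (Subgroup.subset_closure ha))
      (hFH z (Subgroup.mem_inf.1 hzz).1 b (Subgroup.subset_closure hb))
  have hNle : Nat.card N ≤ 6 * Nat.card F' := by
    have h1 := Loc.card_le_mul N a T fun g hg => fixSet_normalizer S hg ha
    have h2 := Loc.card_le_mul (N ⊓ Subgroup.centralizer ({a} : Set G)) b (T \ {a}) fun g hg => by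
      refine ⟨fixSet_normalizer S (Subgroup.mem_inf.1 hg).1 hb, fun h => hne ?_⟩
      rw [Set.mem_singleton_iff] at h
      have h' : g * a * g⁻¹ = a :=
        mul_inv_eq_iff_eq_mul.2 (Subgroup.mem_centralizer_singleton_iff.1 (Subgroup.mem_inf.1 hg).2)
      exact (mul_left_cancel (mul_right_cancel (h.trans h'.symm))).symm
    rw [Set.ncard_diff_singleton_of_mem ha, h3] at h2
    rw [h3] at h1
    have h3' : Nat.card ↥(N ⊓ Subgroup.centralizer ({a} : Set G) ⊓ Subgroup.centralizer ({b} : Set G)) ≤ Nat.card F' := by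
      refine Nat.le_of_dvd Nat.card_pos (Subgroup.card_dvd_of_le fun g hg => ?_)
      obtain ⟨hg1, hg2⟩ := Subgroup.mem_inf.1 hg
      obtain ⟨hg0, hg1⟩ := Subgroup.mem_inf.1 hg1
      exact Subgroup.mem_inf.2 ⟨hg0, hTF g (Subgroup.mem_centralizer_singleton_iff.1 hg1)
        (Subgroup.mem_centralizer_singleton_iff.1 hg2)⟩
    omega
  have hC42 : Nat.card C = 42 := by
    have hC' : C = Subgroup.centralizer ({y} : Set G) := centralizer_zpowers y
    have := Loc.card_eq_mul C a T (fun g hg => fixSet_normalizer S (hCN hg) ha) fun x hx => by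
      rw [hT] at hx
      rcases hx with hx | hx | (hx : x = a * b * a) <;> rw [hx]
      · exact ⟨1, one_mem _, by group⟩
      · refine ⟨a * b, hHC (mul_mem (Subgroup.subset_closure ha) (Subgroup.subset_closure hb)), ?_⟩
        rw [mul_inv_rev, S.tt.inv_eq ha.1, S.tt.inv_eq hb.1]
        calc a * b * a * (b * a) = (b * a * b) * (b * a) := by rw [S.tt.braid ha.1 hb.1 hnc]
          _ = b * a * (b * b) * a := by group
          _ = b := by rw [S.sqd hb.1, mul_one, mul_assoc, S.sqd ha.1, mul_one]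
      · refine ⟨b, hHC (Subgroup.subset_closure hb), ?_⟩
        rw [S.tt.inv_eq hb.1, S.tt.braid ha.1 hb.1 hnc]
    rw [h3, hC', inf_comm, seven_cent S hF hM ha.1 hy hy1 ha.2.symm] at this
    rw [hC']; exact this
  have hN252 : Nat.card N = 252 := by
    obtain ⟨m, hm, hm1⟩ := Loc.sylow_count hpr (le_top (a := X)) hX
      (by rw [Subgroup.card_top, card_eq S hF hM]; norm_num)
    obtain ⟨k, hk, hk6⟩ := Loc.normalizer_index hpr (⊤ : Subgroup G) hX
    rw [top_inf_eq, top_inf_eq, ← hN, ← hC, hC42] at hk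
    rw [top_inf_eq, Subgroup.card_top, card_eq S hF hM, ← hN, hk] at hm
    have hk' : k ≤ 6 := Nat.le_of_dvd (by norm_num) hk6
    unfold Nat.ModEq at hm1
    interval_cases k <;> rw [hk] <;> omega
  have hsup : F' ⊔ H = N := Loc.sup_eq_of_card inf_le_left (hHC.trans hCN) hbot (by rw [hH6]; omega)
  have hF42 : Nat.card F' = 42 := by
    have := Loc.card_mul_le_sup hbot
    rw [hsup, hH6, hN252] at this
    omega
  have hXC : X ≤ C := Subgroup.zpowers_le.2 (Loc.mem_centralizer_zpowers.2 (Commute.refl y))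
  have hXF : X ≤ F' := Subgroup.zpowers_le.2 (Subgroup.mem_inf.2 ⟨hCN (hXC (Subgroup.mem_zpowers y)),
    hTF y ha.2 hb.2⟩)
  refine ⟨F', hF42, hXF, (Subgroup.eq_of_le_of_card_ge (le_inf hXF hXC) ?_).symm, hbot, hFH, hsup, hiso⟩
  have h1 := Loc.card_mul_le_sup (A := F' ⊓ C) (B := H)
    (by rw [inf_right_comm, hbot, bot_inf_eq])
  have h2 := Nat.le_of_dvd Nat.card_pos (Subgroup.card_dvd_of_le (sup_le inf_le_right hHC : F' ⊓ C ⊔ H ≤ C))
  rw [hH6] at h1
  rw [hC42] at h2
  rw [hX]
  omega

/-- Subgroups of order seven are conjugate. -/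
theorem seven_conj {X Y : Subgroup G} (hX : Nat.card X = 7) (hY : Nat.card Y = 7) :
    ∃ g : G, X.map (MulAut.conj g).toMonoidHom = Y := by
  obtain ⟨g, -, hg⟩ := Loc.conj_of_card (by norm_num : (7 : ℕ).Prime) (le_top (a := X)) (le_top (a := Y)) hX hY
    (by rw [Subgroup.card_top, card_eq S hF hM]; norm_num)
  exact ⟨g, hg⟩

end CfsgLib.M22Sylow
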