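import Cfsg.Agent.Lib.ThreeTransp.M22Sylow.Fixed
import Cfsg.Agent.Lib.ThreeTransp.M22Sylow.Local
import Cfsg.Agent.Lib.ThreeTransp.M22Order

/-!
# Groups of type `M(22)`: elements of odd prime order fixing a member
-/

set_option autoImplicit false

namespace CfsgLib.M22Sylow

open CfsgLib.ThreeTransp CfsgLib.M22
open CfsgLib.PSUAut CfsgLib.U6
open CfsgLib.UnitarySpec (psuMk)

variable {G : Type*} [Group G] [Finite G] {D : Set G} (S : Setup D) {F : Type} [Field F] [Fintype F]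
  (hF : Fintype.card F = 2 ^ 2) (hM : ∀ a ∈ D, Nonempty (Model D a F))

/-- The members fixed by an element. -/
def fixSet (D : Set G) (y : G) : Set G := {e | e ∈ D ∧ Commute y e}

omit [Finite G] in
theorem inter_centralizer (y : G) :
    D ∩ (Subgroup.centralizer ((Subgroup.zpowers y : Subgroup G) : Set G) : Set G) = fixSet D y :=
  Set.ext fun _ => and_congr_right fun _ => Loc.mem_centralizer_zpowers

include S in
omit [Finite G] in
theorem fixSet_conj {y g e : G} (hg : Commute y g) (he : e ∈ fixSet D y) : g * e * g⁻¹ ∈ fixSet D y :=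
  ⟨S.tt.conj g e he.1, (hg.mul_right he.2).mul_right hg.inv_right⟩

omit [Finite G] in
theorem centralizer_zpowers (y : G) :
    Subgroup.centralizer ((Subgroup.zpowers y : Subgroup G) : Set G) = Subgroup.centralizer ({y} : Set G) :=
  Subgroup.ext fun _ => Loc.mem_centralizer_zpowers.trans
    ⟨fun h => Subgroup.mem_centralizer_singleton_iff.2 h.symm.eq,
      fun h => (Subgroup.mem_centralizer_singleton_iff.1 h).symm⟩

include S in
omit [Finite G] in
theorem fixSet_normalizer {y g e : G} (hg : g ∈ Subgroup.normalizer ((Subgroup.zpowers y : Subgroup G) : Set G))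
    (he : e ∈ fixSet D y) : g * e * g⁻¹ ∈ fixSet D y := by
  refine ⟨S.tt.conj g e he.1, ?_⟩
  obtain ⟨k, hk⟩ : ∃ k : ℤ, y ^ k = g⁻¹ * y * g :=
    ((Subgroup.mem_normalizer_iff''.1 hg) y).1 (Subgroup.mem_zpowers y)
  have h := (he.2.zpow_left k).eq
  rw [hk] at h
  calc y * (g * e * g⁻¹) = g * (g⁻¹ * y * g * e) * g⁻¹ := by group
    _ = g * (e * (g⁻¹ * y * g)) * g⁻¹ := by rw [h]
    _ = g * e * g⁻¹ * y := by group

include S hF hM

theorem fixSet_modEq {p : ℕ} (hp : p.Prime) {y : G} (hy : y ^ p = 1) :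
    3510 ≡ (fixSet D y).ncard [MOD p] :=
  ncard_eq S hF hM ▸ Loc.fix_modEq hp hy D fun e he => S.tt.conj y e he

omit hF hM [Finite G] in
theorem link_invariant {a y : G} (hay : Commute a y) {e : G} (he : e ∈ link D a) : y * e * y⁻¹ ∈ link D a := by
  have := link_conj S.tt y he
  rwa [show y * a * y⁻¹ = a by rw [← hay.eq, mul_inv_cancel_right]] at this

theorem link_modEq {p : ℕ} (hp : p.Prime) {a y : G} (ha : a ∈ D) (hy : y ^ p = 1) (hay : Commute a y) :
    693 ≡ {e | e ∈ link D a ∧ Commute y e}.ncard [MOD p] :=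
  link_ncard_eq S hF hM ha ▸ Loc.fix_modEq hp hy _ fun _ => link_invariant S hay

theorem common_modEq {p : ℕ} (hp : p.Prime) {a c y : G} (ha : a ∈ D) (hc : c ∈ D) (hnc : ¬ Commute a c)
    (hy : y ^ p = 1) (hay : Commute a y) (hcy : Commute c y) :
    126 ≡ {e | e ∈ link D a ∩ link D c ∧ Commute y e}.ncard [MOD p] :=
  (nonlink_count S hF hM ha hc hnc).2 ▸ Loc.fix_modEq hp hy _
    fun _ he => ⟨link_invariant S hay he.1, link_invariant S hcy he.2⟩

theorem mem_closure_link {a y : G} (ha : a ∈ D) (h : Commute a y) : y ∈ Subgroup.closure (link D a) := by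
  rw [← centralizer_eq S hF hM ha]
  exact Subgroup.mem_centralizer_singleton_iff.2 h.symm

theorem card_centralizer {a : G} (ha : a ∈ D) :
    Nat.card ↥(Subgroup.centralizer ({a} : Set G)) = 18393661440 := by
  rw [centralizer_eq S hF hM ha, card_link_closure S hF hM ha]

theorem ker_model {a : G} (ha : a ∈ D) (A : Model D a F) {x : G} {hx : x ∈ Subgroup.closure (link D a)}
    (h : A.ψ ⟨x, hx⟩ = 1) : x ∈ Subgroup.zpowers a := by
  have h1 := (A.ker _).1 h
  rw [center_link S hF hM ha, Subgroup.mem_subgroupOf] at h1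
  exact h1

theorem ker_model' {a : G} (ha : a ∈ D) (A : Model D a F) {x : G} {hx : x ∈ Subgroup.closure (link D a)}
    (h : x ∈ Subgroup.zpowers a) : A.ψ ⟨x, hx⟩ = 1 := by
  refine (A.ker _).2 ?_
  rw [center_link S hF hM ha, Subgroup.mem_subgroupOf]
  exact h

omit hF hM [Finite G] in
theorem mem_zpowers_cases {a x : G} (ha : a ∈ D) (h : x ∈ Subgroup.zpowers a) : x = 1 ∨ x = a := by
  obtain ⟨k, rfl⟩ := h
  have h2 : a ^ (2 : ℤ) = 1 := by rw [zpow_two]; exact S.sqd ha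
  obtain ⟨m, rfl | rfl⟩ := Int.even_or_odd' k
  · left; simp only [zpow_mul, h2, one_zpow]
  · right; simp only [zpow_add, zpow_mul, h2, one_zpow, one_mul, zpow_one]

/-- An element of odd prime order fixing `a`, lifted. -/
theorem exists_model_lift {p : ℕ} (hp : p.Prime) (h2 : p ≠ 2) (h3 : p ≠ 3) {a y : G} (ha : a ∈ D)
    (A : Model D a F) (hy : y ^ p = 1) (hy1 : y ≠ 1) (hay : Commute a y) :
    ∃ (h : y ∈ Subgroup.closure (link D a)) (t : Cfsg.SU 6 F 2), psuMk t = A.ψ ⟨y, h⟩ ∧ t ^ p = 1 ∧ t ≠ 1 := by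
  have h := mem_closure_link S hF hM ha hay
  have hpow : (⟨y, h⟩ : ↥(Subgroup.closure (link D a))) ^ p = 1 := Subtype.ext hy
  obtain ⟨t, ht, htp⟩ := exists_lift hF hp h3 (x := A.ψ ⟨y, h⟩) (by rw [← map_pow, hpow, map_one])
  refine ⟨h, t, ht, htp, fun e => ?_⟩
  subst e
  rw [map_one] at ht
  rcases mem_zpowers_cases S ha (ker_model S hF hM ha A ht.symm) with e | e
  · exact hy1 e
  · subst e
    have hp2 : p = 2 := by
      haveI := Fact.mk hp
      rw [← orderOf_eq_prime hy hy1]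
      exact orderOf_eq_prime (by rw [pow_two]; exact S.sqd ha) hy1
    exact h2 hp2

omit hM in
/-- The fixed members of a link are the fixed points. -/
theorem commute_iff_fix {p : ℕ} (hp : p.Prime) (h3 : p ≠ 3) {a y : G} (ha : a ∈ D) (A : Model D a F)
    {h : y ∈ Subgroup.closure (link D a)} {t : Cfsg.SU 6 F 2} (ht : psuMk t = A.ψ ⟨y, h⟩) (htp : t ^ p = 1)
    {e : G} (he : e ∈ link D a) {v : Fin 6 → F} (hv : IsPt (A.img he) v) :
    Commute y e ↔ v ∈ fixSub t := by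
  rw [mem_fixSub]
  have h1 := hv.conj hF t
  rw [ht, ← A.img_conj S he ⟨y, h⟩] at h1
  constructor
  · intro hc
    have e1 : A.img (Model.conj_mem S he ⟨y, h⟩) = A.img he :=
      congrArg A.ψ (Subtype.ext (show y * e * y⁻¹ = e by rw [hc.eq, mul_inv_cancel_right]))
    rw [e1] at h1
    obtain ⟨r, -, hr⟩ := IsPt.span_eq hF hv h1
    exact eigen hF hp h3 htp hv.1.1 hr
  · intro hfix
    rw [hfix] at h1
    exact mul_inv_eq_iff_eq_mul.1 (A.img_inj S ha (Model.conj_mem S he ⟨y, h⟩) he (IsPt.unique hF h1 hv))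

/-- The image in `PSU₆(2)` of a subgroup fixing `a`. -/
def imgSub {a : G} (A : Model D a F) (K : Subgroup G) : Subgroup (Cfsg.PSU 6 F 2) :=
  (K.subgroupOf (Subgroup.closure (link D a))).map A.ψ

theorem card_imgSub {a : G} (ha : a ∈ D) (A : Model D a F) {K : Subgroup G}
    (hK : ∀ g ∈ K, Commute a g) :
    Nat.card K = Nat.card ↥(K ⊓ Subgroup.zpowers a) * Nat.card (imgSub A K) := by
  set C := Subgroup.closure (link D a) with hC
  have hle : K ≤ C := fun g hg => mem_closure_link S hF hM ha (hK g hg)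
  let f : K →* Cfsg.PSU 6 F 2 := A.ψ.comp (Subgroup.inclusion hle)
  have hker : f.ker = (K ⊓ Subgroup.zpowers a).subgroupOf K := by
    ext ⟨g, hg⟩
    rw [MonoidHom.mem_ker, Subgroup.mem_subgroupOf, Subgroup.mem_inf]
    exact ⟨fun h => ⟨hg, ker_model S hF hM ha A h⟩, fun h => ker_model' S hF hM ha A h.2⟩
  have hrange : f.range = imgSub A K := by
    ext q
    constructor
    · rintro ⟨⟨g, hg⟩, rfl⟩
      exact ⟨⟨g, hle hg⟩, hg, rfl⟩
    · rintro ⟨⟨g, hgC⟩, hg, rfl⟩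
      exact ⟨⟨g, hg⟩, rfl⟩
  rw [Subgroup.card_eq_card_quotient_mul_card_subgroup f.ker,
    Nat.card_congr (QuotientGroup.quotientKerEquivRange f).toEquiv, hrange, hker, mul_comm,
    Nat.card_congr (Subgroup.subgroupOfEquivOfLe (inf_le_left : K ⊓ Subgroup.zpowers a ≤ K)).toEquiv]

omit S hM [Finite G] in
theorem mem_imgSub {p : ℕ} (hp : p.Prime) (h3 : p ≠ 3) {a y : G} (A : Model D a F)
    {h : y ∈ Subgroup.closure (link D a)} {t : Cfsg.SU 6 F 2} (ht : psuMk t = A.ψ ⟨y, h⟩) (htp : t ^ p = 1)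
    {K : Subgroup G} (hK : ∀ g ∈ K, Commute y g) {q : Cfsg.PSU 6 F 2} (hq : q ∈ imgSub A K) :
    ∃ (g : G) (hg : g ∈ Subgroup.closure (link D a)) (s : Cfsg.SU 6 F 2),
      g ∈ K ∧ psuMk s = A.ψ ⟨g, hg⟩ ∧ psuMk s = q ∧ Commute s t := by
  obtain ⟨⟨g, hgC⟩, hgK, rfl⟩ := hq
  obtain ⟨s, hs⟩ := QuotientGroup.mk'_surjective (Subgroup.center (Cfsg.SU 6 F 2)) (A.ψ ⟨g, hgC⟩)
  refine ⟨g, hgC, s, hgK, hs, hs, commute_of_psuMk hF hp h3 htp ?_⟩
  rw [ht, show psuMk s = A.ψ ⟨g, hgC⟩ from hs]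
  exact Commute.map (show Commute (⟨g, hgC⟩ : ↥(Subgroup.closure (link D a))) ⟨y, h⟩ from
    Subtype.ext (hK g hgK).symm) A.ψ

omit S hM [Finite G] in
/-- Bounding an image by a point stabiliser. -/
theorem card_dvd_pointStab {t : Cfsg.SU 6 F 2} {Q : Subgroup (Cfsg.PSU 6 F 2)}
    (h : ∀ q ∈ Q, ∃ s : Cfsg.SU 6 F 2, s ∈ pointStab t ∧ psuMk s = q) :
    Nat.card Q ∣ Nat.card ↥(pointStab t) :=
  (Subgroup.card_dvd_of_le (show Q ≤ (pointStab t).map psuMk from fun q hq => h q hq)).trans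
    (Subgroup.card_map_dvd _ _)

omit S hM [Finite G] in
theorem scalar_fix {t s : Cfsg.SU 6 F 2} (hs : Commute s t) {c : F} (hc : c ≠ 0) :
    ∃ s' : Cfsg.SU 6 F 2, psuMk s' = psuMk s ∧ Commute s' t ∧ ∀ v, act s' v = c • act s v := by
  obtain ⟨z, hz, hza⟩ := scal hF hc
  refine ⟨z * s, by rw [map_mul, hz, one_mul], Commute.mul_left ?_ hs, fun v => by rw [act_mul, hza]⟩
  refine act_ext fun v => ?_
  rw [act_mul, act_mul, hza, hza, act_smul]

omit [Finite G] in
theorem card_centralizer_two {a y : G} [Finite G] (ha : a ∈ D) (A : Model D a F) (hay : Commute a y) :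
    Nat.card ↥(Subgroup.centralizer ({a} : Set G) ⊓ Subgroup.centralizer ({y} : Set G)) =
      2 * Nat.card (imgSub A (Subgroup.centralizer ({a} : Set G) ⊓ Subgroup.centralizer ({y} : Set G))) := by
  rw [card_imgSub S hF hM ha A (K := Subgroup.centralizer ({a} : Set G) ⊓ Subgroup.centralizer ({y} : Set G))
    (fun g hg => (Subgroup.mem_centralizer_singleton_iff.1 (Subgroup.mem_inf.1 hg).1).symm)]
  congr 1
  have hle : Subgroup.zpowers a ≤ Subgroup.centralizer ({a} : Set G) ⊓ Subgroup.centralizer ({y} : Set G) :=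
    Subgroup.zpowers_le.2 (Subgroup.mem_inf.2 ⟨Subgroup.mem_centralizer_singleton_iff.2 rfl,
      Subgroup.mem_centralizer_singleton_iff.2 hay.eq⟩)
  rw [inf_eq_right.2 hle, Nat.card_zpowers]
  exact orderOf_eq_prime (by rw [pow_two]; exact S.sqd ha) (S.tt.ne_one a ha)

end CfsgLib.M22Sylow
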